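import Cfsg.Agent.Lib.Recog.SuzIso.Six
import Cfsg.Agent.Lib.LocalEvenB.SuzType.Locals.PairNear
import Cfsg.Agent.Lib.Recog.SporBound.SuzGroup
import Cfsg.Prelude.Def_Spor_Suz

set_option autoImplicit false
set_option linter.unusedSectionVars false
set_option maxRecDepth 100000
set_option Elab.async false

/-!
A group of Suzuki type is the presented Suzuki group (owner: helper22).
-/

namespace CfsgLib.Recog.SuzIso

open CfsgLib.LocalEvenB.SuzType CfsgLib.ThreeTrans CfsgLib.Recog.SuzThree
open Cfsg.Spor (coxRelators coxLabel)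
open Cfsg.Spor.Suz (Gen edges extra)

/-- the relations between seven involutions -/
structure Seven {G : Type*} [Group G] (a b c d e f g : G) : Prop where
  aa : a * a = 1
  bb : b * b = 1
  cc : c * c = 1
  dd : d * d = 1
  ee : e * e = 1
  ff : f * f = 1
  gg : g * g = 1
  ac : Commute a c
  ad : Commute a d
  ae : Commute a e
  af : Commute a f
  ag : Commute a g
  bd : Commute b d
  be : Commute b e
  ce : Commute c e
  cf : Commute c f
  cg : Commute c g
  df : Commute d f
  dg : Commute d g
  ef : Commute e f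
  eg : Commute e g
  ab5 : (a * b) ^ 5 = 1
  bc3 : (b * c) ^ 3 = 1
  de3 : (d * e) ^ 3 = 1
  bf3 : (b * f) ^ 3 = 1
  gb3 : (g * b) ^ 3 = 1
  cd4 : (c * d) ^ 4 = a
  fg2 : (f * g) ^ 2 = a
  abcf : (a * b * c * f) ^ 5 = 1
  bfg : (b * f * g) ^ 5 = 1
  last : ((b * c * d * c * d) ^ 5 * e) ^ 3 = 1

theorem swap_pow {G : Type*} [Group G] {a b : G} {n : ℕ} (h : (a * b) ^ n = 1) : (b * a) ^ n = 1 := by
  rw [show b * a = a⁻¹ * (a * b) * a⁻¹⁻¹ by group, conj_pow, h, mul_one, mul_inv_cancel]

theorem comm_sq {G : Type*} [Group G] {a b : G} (ha : a * a = 1) (hb : b * b = 1) (h : Commute a b) :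
    (a * b) ^ 2 = 1 := by
  rw [h.mul_pow, pow_two, pow_two, ha, hb, one_mul]

theorem Seven.exists_hom {G : Type*} [Group G] {a b c d e f g : G} (S : Seven a b c d e f g) :
    ∃ θ : Cfsg.Spor.Suz →* G, θ (PresentedGroup.of Gen.a) = a := by
  obtain ⟨s, hs⟩ : ∃ s : Gen → G, s = fun x =>
      match x with
      | .a => a | .b => b | .c => c | .d => d | .e => e | .f => f | .g => g := ⟨_, rfl⟩
  have hrel : ∀ r ∈ coxRelators edges ∪ {r | r ∈ extra}, FreeGroup.lift s r = 1 := by
    have cd8 : (c * d) ^ 8 = 1 := by rw [show 8 = 4 * 2 from rfl, pow_mul, S.cd4, pow_two, S.aa]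
    have fg4 : (f * g) ^ 4 = 1 := by rw [show 4 = 2 * 2 from rfl, pow_mul, S.fg2, pow_two, S.aa]
    rintro r (⟨x, -, u, -, rfl⟩ | hr)
    · rw [map_pow, map_mul, FreeGroup.lift_apply_of, FreeGroup.lift_apply_of]
      subst hs
      cases x <;> cases u
      all_goals
        first
          | (show (_ * _) ^ 1 = 1
             rw [pow_one]
             first
               | exact S.aa | exact S.bb | exact S.cc | exact S.dd | exact S.ee | exact S.ff | exact S.gg)
          | exact S.ab5 | exact swap_pow S.ab5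
          | exact comm_sq S.aa S.cc S.ac | exact swap_pow (comm_sq S.aa S.cc S.ac)
          | exact comm_sq S.aa S.dd S.ad | exact swap_pow (comm_sq S.aa S.dd S.ad)
          | exact comm_sq S.aa S.ee S.ae | exact swap_pow (comm_sq S.aa S.ee S.ae)
          | exact comm_sq S.aa S.ff S.af | exact swap_pow (comm_sq S.aa S.ff S.af)
          | exact comm_sq S.aa S.gg S.ag | exact swap_pow (comm_sq S.aa S.gg S.ag)
          | exact S.bc3 | exact swap_pow S.bc3
          | exact comm_sq S.bb S.dd S.bd | exact swap_pow (comm_sq S.bb S.dd S.bd)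
          | exact comm_sq S.bb S.ee S.be | exact swap_pow (comm_sq S.bb S.ee S.be)
          | exact S.bf3 | exact swap_pow S.bf3
          | exact S.gb3 | exact swap_pow S.gb3
          | exact cd8 | exact swap_pow cd8
          | exact comm_sq S.cc S.ee S.ce | exact swap_pow (comm_sq S.cc S.ee S.ce)
          | exact comm_sq S.cc S.ff S.cf | exact swap_pow (comm_sq S.cc S.ff S.cf)
          | exact comm_sq S.cc S.gg S.cg | exact swap_pow (comm_sq S.cc S.gg S.cg)
          | exact S.de3 | exact swap_pow S.de3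
          | exact comm_sq S.dd S.ff S.df | exact swap_pow (comm_sq S.dd S.ff S.df)
          | exact comm_sq S.dd S.gg S.dg | exact swap_pow (comm_sq S.dd S.gg S.dg)
          | exact comm_sq S.ee S.ff S.ef | exact swap_pow (comm_sq S.ee S.ff S.ef)
          | exact comm_sq S.ee S.gg S.eg | exact swap_pow (comm_sq S.ee S.gg S.eg)
          | exact fg4 | exact swap_pow fg4
    · simp only [extra, Set.mem_setOf_eq, List.mem_cons, List.not_mem_nil, or_false] at hr
      subst hs
      rcases hr with rfl | rfl | rfl | rfl | rfl <;>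
        simp only [Cfsg.Spor.Suz.a, Cfsg.Spor.Suz.b, Cfsg.Spor.Suz.c, Cfsg.Spor.Suz.d, Cfsg.Spor.Suz.e,
          Cfsg.Spor.Suz.f, Cfsg.Spor.Suz.g, map_mul, map_inv, map_pow, FreeGroup.lift_apply_of]
      · rw [S.cd4, mul_inv_cancel]
      · rw [S.fg2, mul_inv_cancel]
      · exact S.abcf
      · exact S.bfg
      · exact S.last
  exact ⟨PresentedGroup.toGroup hrel, by rw [PresentedGroup.toGroup.of, hs]⟩

/-- the recognition theorem -/
theorem suz_iso {G : Type*} [Group G] [Finite G] {z : G} {Q : Subgroup G} (hH : Hyp z Q)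
    (hn : ∃ g : G, g * z * g⁻¹ ∈ Q ∧ g * z * g⁻¹ ≠ z) : Cfsg.Spor.IsoSuz G := by
  classical
  obtain ⟨p, hp⟩ := hH.exists_sys
  obtain ⟨k, Fr⟩ := CfsgLib.Recog.SuzThree.exists_frame hp hn
  obtain ⟨t, v, W4⟩ := Fr.exists_four
  have hcard : Nat.card G = 448345497600 := W4.card_group
  obtain ⟨y, d, e, W⟩ := exists_five hp hn
  have S := W.std
  let K9 := GaloisField 3 2
  haveI : Fintype K9 := Fintype.ofFinite K9
  have hK : Fintype.card K9 = 9 := by rw [Fintype.card_eq_nat_card, GaloisField.card 3 2 (by norm_num)]; rfl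
  have hcy : ∀ c : ↥(Subgroup.centralizer ({y} : Set G)), Commute (c : G) y := fun c =>
    mem_centralizer_singleton_iff'.1 c.2
  haveI hNn : ((Subgroup.zpowers y).subgroupOf (Subgroup.centralizer ({y} : Set G))).Normal := ⟨fun x hx g => by
    obtain ⟨n, hn'⟩ := mem_powers_iff_mem_zpowers.2 (Subgroup.mem_subgroupOf.1 hx)
    rw [Subgroup.mem_subgroupOf, Subgroup.coe_mul, Subgroup.coe_mul, Subgroup.coe_inv, ← show y ^ n = (x : G) from hn',
      ((hcy g).pow_right n).eq, mul_inv_cancel_right]
    exact Subgroup.npow_mem_zpowers y n⟩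
  have hCY : Subgroup.centralizer ((Subgroup.zpowers y : Subgroup G) : Set G) = Subgroup.centralizer ({y} : Set G) := by
    ext c
    rw [mem_centralizer_singleton_iff', Subgroup.mem_centralizer_iff]
    refine ⟨fun h => (h y (Subgroup.mem_zpowers y)).symm, fun h t ht => ?_⟩
    obtain ⟨k, rfl⟩ := Subgroup.mem_zpowers_iff.1 ht
    exact ((show Commute c y from h).zpow_right k).eq.symm
  haveI : ((Subgroup.zpowers y).subgroupOf
      (Subgroup.centralizer ((Subgroup.zpowers y : Subgroup G) : Set G))).Normal := by rw [hCY]; exact hNn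
  have hperf : commutator ↥(Subgroup.centralizer ({y} : Set G)) = ⊤ := by
    have h := (S.main hn (Subgroup.zpowers y) rfl K9 hK).1.1
    rw [hCY] at h
    exact h.commutator_eq_top
  -- the quotient and its data
  let π := QuotientGroup.mk' ((Subgroup.zpowers y).subgroupOf (Subgroup.centralizer ({y} : Set G)))
  have hsurj : Function.Surjective π := QuotientGroup.mk'_surjective _
  have hker : ∀ x, π x = 1 ↔ (x : G) ∈ Subgroup.zpowers y := fun x => by
    rw [← MonoidHom.mem_ker, QuotientGroup.ker_mk', Subgroup.mem_subgroupOf]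
  obtain ⟨B, w, -, -, -, φ, F, hφ⟩ := S.exists_base hn π hsurj hker
  obtain ⟨g0, h1, h2, h3, h4⟩ := B.ctx.exists_adjusted
  let D : UFourThree.Adj (↥(Subgroup.centralizer ({y} : Set G)) ⧸ (Subgroup.zpowers y).subgroupOf _) :=
    { psi := B.ctx.psi, g := g0, psi_mul := B.ctx.psi_mul, psi_inj := B.ctx.psi_inj, psi_surj := B.ctx.psi_surj,
      psi_comm := B.ctx.psi_comm, g_z := h2, g_u := h3, g_sq := h1, g_sig := h4 }
  have P : Pack z Q p y d e φ π D := ⟨W, F, hsurj, hker, fun x hx hxm => by
    show B.exists_outer'.some.psi x = _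
    rw [B.exists_outer'.some.psi_kx hx, B.kx_def]
    exact hφ _ hxm⟩
  obtain ⟨a, a0, a3, hbd, hae, hfd, hrel, hxin, hxne⟩ := P.exists_six hperf
  obtain ⟨l0, l1, l2, l4, l5⟩ := And.intro (hae 0 (by norm_num) (by norm_num)) (And.intro (hae 1 (by norm_num) (by norm_num))
    (And.intro (hae 2 (by norm_num) (by norm_num)) (And.intro (hae 4 (by norm_num) (by norm_num)) (hae 5 (by norm_num) (by norm_num)))))
  have hr : ∀ {r : List ℕ}, (sixRels.contains r && !(r == (List.replicate 5 [1, 2, 3]).flatten)) = true →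
      (r.map a).prod = 1 := fun h => by
    simp only [Bool.and_eq_true, List.contains_iff_mem, Bool.not_eq_true', beq_eq_false_iff_ne] at h
    exact hrel _ h.1 h.2
  have sq : ∀ {j : ℕ}, (sixRels.contains [j, j] && !([j, j] == (List.replicate 5 [1, 2, 3]).flatten)) = true →
      a j * a j = 1 := fun h => by simpa using hr h
  have aa := sq (j := 0) (by decide +kernel)
  have bb := sq (j := 1) (by decide +kernel)
  have cc := sq (j := 2) (by decide +kernel)
  have ff := sq (j := 4) (by decide +kernel)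
  have gg := sq (j := 5) (by decide +kernel)
  have com : ∀ {i j : ℕ}, a i * a i = 1 → a j * a j = 1 →
      (sixRels.contains [i, j, i, j] && !([i, j, i, j] == (List.replicate 5 [1, 2, 3]).flatten)) = true →
      Commute (a i) (a j) := by
    intro i j hi hj h
    have h' : a i * a j * (a i * a j) = 1 := by simpa [mul_assoc] using hr h
    show a i * a j = a j * a i
    calc a i * a j = (a i * a j)⁻¹ := (inv_eq_of_mul_eq_one_right h').symm
      _ = _ := by rw [mul_inv_rev, inv_eq_of_mul_eq_one_right hi, inv_eq_of_mul_eq_one_right hj]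
  have dinv : d⁻¹ = d := inv_eq_of_mul_eq_one_right W.dd
  have hd23 : a 2 * d * (a 2 * d) = a 2 * a 3 := by rw [a3, dinv]; group
  have hcube : y ^ 3 = 1 := by rw [pow_succ, pow_two, S.cube]
  have hlast : ((a 1 * a 2 * d * a 2 * d) ^ 5 * e) ^ 3 = 1 := by
    have hx : (a 1 * a 2 * d * a 2 * d) ^ 5 = ((List.replicate 5 [1, 2, 3]).flatten.map a).prod := by
      rw [show a 1 * a 2 * d * a 2 * d = a 1 * (a 2 * d * (a 2 * d)) by group, hd23]
      simp [List.replicate, pow_succ, mul_assoc]
    rw [hx]
    obtain ⟨n, hn'⟩ := mem_powers_iff_mem_zpowers.2 hxin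
    generalize ((List.replicate 5 [1, 2, 3]).flatten.map a).prod = x at hn' hxne
    have hye : (y * e) ^ 3 = 1 := by rw [pow_succ, pow_two]; exact W.ye3
    have hy2e : (y * y * e) ^ 3 = 1 := by
      have he : y * y = y⁻¹ := (inv_eq_of_mul_eq_one_right (by rw [← mul_assoc]; exact S.cube)).symm
      rw [he, show y⁻¹ * e = (e⁻¹ * y)⁻¹ by group, inv_pow, inv_eq_of_mul_eq_one_right W.ee, swap_pow hye, inv_one]
    have hn3 : y ^ (n % 3) = x := by
      rw [← show y ^ n = x from hn']
      conv_rhs => rw [← Nat.div_add_mod n 3, pow_add, pow_mul, hcube, one_pow, one_mul]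
    have hm := Nat.mod_lt n (show 3 > 0 by norm_num)
    interval_cases hm' : n % 3
    · exact absurd (by rw [← hn3, pow_zero]) hxne
    · rw [← hn3, pow_one]; exact hye
    · rw [← hn3, pow_two]; exact hy2e
  have S7 : Seven (a 0) (a 1) (a 2) d e (a 4) (a 5) :=
    { aa := aa, bb := bb, cc := cc, dd := W.dd, ee := W.ee, ff := ff, gg := gg
      ac := com aa cc (by decide +kernel)
      ad := a0 ▸ W.d_act.1.symm
      ae := l0
      af := com aa ff (by decide +kernel)
      ag := com aa gg (by decide +kernel)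
      bd := hbd, be := l1, ce := l2
      cf := com cc ff (by decide +kernel)
      cg := com cc gg (by decide +kernel)
      df := (hfd 4 (Or.inl rfl)).symm
      dg := (hfd 5 (Or.inr rfl)).symm
      ef := l4.symm, eg := l5.symm
      ab5 := by simpa [pow_succ, mul_assoc] using hr (r := [0, 1, 0, 1, 0, 1, 0, 1, 0, 1]) (by decide +kernel)
      bc3 := by simpa [pow_succ, mul_assoc] using hr (r := [1, 2, 1, 2, 1, 2]) (by decide +kernel)
      de3 := by rw [pow_succ, pow_two]; exact W.de3
      bf3 := by simpa [pow_succ, mul_assoc] using hr (r := [1, 4, 1, 4, 1, 4]) (by decide +kernel)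
      gb3 := swap_pow (by simpa [pow_succ, mul_assoc] using hr (r := [1, 5, 1, 5, 1, 5]) (by decide +kernel))
      cd4 := by
        rw [show 4 = 2 * 2 from rfl, pow_mul, pow_two (a 2 * d), hd23, pow_two]
        refine ((inv_eq_of_mul_eq_one_right (show a 0 * (a 2 * a 3 * (a 2 * a 3)) = 1 by
          simpa [mul_assoc] using hr (r := [0, 2, 3, 2, 3]) (by decide +kernel))).symm).trans ?_
        exact inv_eq_of_mul_eq_one_right aa
      fg2 := by
        refine ((inv_eq_of_mul_eq_one_right (show a 0 * (a 4 * a 5) ^ 2 = 1 by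
          simpa [pow_succ, mul_assoc] using hr (r := [0, 4, 5, 4, 5]) (by decide +kernel))).symm).trans ?_
        exact inv_eq_of_mul_eq_one_right aa
      abcf := by simpa [List.replicate, pow_succ, mul_assoc] using hr (r := (List.replicate 5 [0, 1, 2, 4]).flatten) (by decide +kernel)
      bfg := by simpa [List.replicate, pow_succ, mul_assoc] using hr (r := (List.replicate 5 [1, 4, 5]).flatten) (by decide +kernel)
      last := hlast }
  obtain ⟨θ, hθ⟩ := S7.exists_hom
  haveI : IsSimpleGroup Cfsg.Spor.Suz := CfsgLib.Recog.SporBound.SuzGroup.isSimple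
  haveI : Finite Cfsg.Spor.Suz := CfsgLib.Recog.SporBound.SuzGroup.finite_suz
  have hinj : Function.Injective θ := by
    refine (MonoidHom.ker_eq_bot_iff θ).1 ((θ.normal_ker).eq_bot_or_eq_top.resolve_right fun h => ?_)
    have : θ (PresentedGroup.of Gen.a) = 1 := MonoidHom.mem_ker.1 (h ▸ Subgroup.mem_top _)
    rw [hθ, a0] at this
    exact hp.large.z_ne_one this
  have hbij : Function.Bijective θ := (Nat.bijective_iff_injective_and_card θ).2 ⟨hinj, by
    rw [CfsgLib.Recog.SporBound.SuzGroup.card_suz_and_faithful.1, hcard]⟩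
  exact ⟨(MulEquiv.ofBijective θ hbij).symm⟩

end CfsgLib.Recog.SuzIso
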