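import Cfsg.Agent.Lib.Recog.SuzIso.Pack

set_option autoImplicit false
set_option linter.unusedSectionVars false
set_option maxRecDepth 100000
set_option Elab.async false

/-!
The action of the inverting involution on the model, as a map of indices (owner: helper22).
-/

namespace CfsgLib.Recog.SuzIso

open CfsgLib.LocalEvenB.SuzType CfsgLib.ThreeTrans CfsgLib.Recog.SuzThree
open CfsgLib.Recog.UFourThree (SL23 kx' IsK evw cgens mul cj tList iu sig)

theorem evw_evi : ∀ {w : List ℕ}, evw w = evi cgens w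
  | [] => rfl
  | c :: w => by rw [evw, evi, evw_evi]

theorem commB_tList : ((List.range 1152).all fun x => !(UFourThree.commB x iu) || tList.contains x) = true ∧
    (tList.all fun t => Nat.blt (sig t) 1152 && UFourThree.commB t iu) = true := by
  refine ⟨?_, ?_⟩ <;> decide +kernel

theorem tList_mem {x : ℕ} (hx : x < 1152) (h : UFourThree.commB x iu = true) : x ∈ tList := by
  have := List.all_eq_true.1 commB_tList.1 x (List.mem_range.2 hx)
  simpa [h] using this

theorem t_facts {t : ℕ} (ht : t ∈ tList) : t < 1152 ∧ sig t < 1152 ∧ UFourThree.commB t iu = true := by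
  have h := List.all_eq_true.1 commB_tList.2 t ht
  simp only [Bool.and_eq_true, Nat.blt_eq] at h
  have hlt : (tList.all fun t => Nat.blt t 1152) = true := by decide +kernel
  exact ⟨by simpa using List.all_eq_true.1 hlt t ht, h.1, h.2⟩

variable {G : Type*} [Group G] [Finite G] {z : G} {Q : Subgroup G} {p : G → Nat} {y d e : G} {φ : SL23 × SL23 →* G}
  {H : Type*} [Group H] {π : Subgroup.centralizer ({y} : Set G) →* H} {D : UFourThree.Adj H}

/-- the map of indices induced by the inverting involution -/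
structure Act (D : UFourThree.Adj H) (δ : H →* H) (dI : ℕ → ℕ) : Prop where
  lt : ∀ x, dI x < 1152
  spec : ∀ x, D.psi (dI x) = δ (D.psi x)
  fix_z : δ (D.psi 48) = D.psi 48
  fix_u : δ (D.psi iu) = D.psi iu

namespace Act

variable {δ : H →* H} {dI : ℕ → ℕ} (A : Act D δ dI)
include A

theorem mul' {a b : ℕ} (ha : a < 1152) (hb : b < 1152) : dI (mul a b) = mul (dI a) (dI b) :=
  D.psi_inj (A.lt _) (UFourThree.mul_lt (A.lt _) (A.lt _))
    (by rw [A.spec, D.psi_mul ha hb, map_mul, D.psi_mul (A.lt _) (A.lt _), A.spec, A.spec])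

theorem cj' {a b : ℕ} (ha : a < 1152) (hb : b < 1152) : dI (cj a b) = cj (dI a) (dI b) :=
  D.psi_inj (A.lt _) (UFourThree.cj_lt (A.lt _) (A.lt _))
    (by rw [A.spec, UFourThree.Ctx.psi_cj D.toCtx ha hb, map_mul, map_mul, map_inv,
      UFourThree.Ctx.psi_cj D.toCtx (A.lt _) (A.lt _), A.spec, A.spec])

theorem zero : dI 0 = 0 :=
  D.psi_inj (A.lt _) (by norm_num) (by rw [A.spec, UFourThree.Ctx.psi_zero D.toCtx, map_one])

theorem evi' {L : List ℕ} (hL : ∀ c < L.length, L.getD c 0 < 1152) :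
    ∀ {w : List ℕ}, (∀ c ∈ w, c < L.length) → evi L w < 1152 ∧ dI (evi L w) = evi (L.map dI) w
  | [], _ => ⟨by norm_num [evi], A.zero⟩
  | c :: w, h => by
    obtain ⟨h1, h2⟩ := evi' hL (w := w) fun i hi => h i (List.mem_cons_of_mem _ hi)
    have hc := h c List.mem_cons_self
    refine ⟨UFourThree.mul_lt (hL c hc) h1, ?_⟩
    rw [evi, evi, A.mul' (hL c hc) h1, h2]
    congr 1
    simp [List.getD_eq_getElem?_getD, List.getElem?_map, List.getElem?_eq_getElem hc]

theorem word {x : ℕ} {w : List ℕ} (h : isWord w x = true) :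
    x < 1152 ∧ dI x = evi (cgens.map dI) w := by
  simp only [isWord, five, Bool.and_eq_true, List.all_eq_true, Nat.blt_eq, Nat.beq_eq] at h
  obtain ⟨h5, rfl⟩ := h
  have hl : cgens.length = 5 := rfl
  rw [evw_evi]
  refine A.evi' (fun c hc => (D.a_gen (hl ▸ hc)).2) fun c hc => by rw [hl]; exact h5 c hc

end Act

theorem Pack.exists_act (P : Pack z Q p y d e φ π D) : ∃ δ dI, Act D δ dI ∧
    ∀ x, Commute x y → img π (d * x * d⁻¹) = δ (img π x) := by
  obtain ⟨δ, hδ⟩ := P.exists_delta
  have hfix : ∀ {x n : ℕ}, coreP x n = true → Commute d (kx' φ x) → δ (D.psi x) = D.psi x := by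
    intro x n h hd
    obtain ⟨-, -, hy, hi⟩ := P.core_lift h
    rw [← hi, ← hδ _ hy, hd.eq, mul_inv_cancel_right]
  have hz : δ (D.psi 48) = D.psi 48 := by
    rw [← P.img_z, ← hδ _ P.z_comm, P.five.d_act.1.eq, mul_inv_cancel_right]
  have hu : δ (D.psi iu) = D.psi iu := by
    have h : coreP iu 4 = true := by decide +kernel
    exact hfix h (P.five.fix _ (P.core_lift h).1 (Or.inl (P.core_lift h).2.1)).2.1
  have hex : ∀ x : ℕ, ∃ x' < 1152, D.psi x' = δ (D.psi x) := fun x => by
    refine D.psi_surj ?_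
    rw [← hz, ← map_mul, ← map_mul, D.psi_comm]
  choose dI h1 h2 using hex
  exact ⟨δ, dI, ⟨h1, h2, hz, hu⟩, hδ⟩

end CfsgLib.Recog.SuzIso
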