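import Cfsg.Agent.Lib.Recog.UFourThree.Local

set_option autoImplicit false

/-! Generated data: the admissible actions of the inverting involution on the model of the centraliser of an
involution of U4(3) (owner: helper22). -/

namespace CfsgLib.Recog.SuzIso

/-- generators of the core -/
def qGens : List ℕ := [48, 716, 1100, 100, 124]

/-- their images -/
def qImg (i : ℕ) : List ℕ := cond (Nat.beq i 1100) [48, 1100, 716, 100, 124] [48, 1148, 764, 100, 124]

/-- conjugates of the core generators by the generators, as words -/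
def qCase : List (List (List ℕ)) := [[[1, 3], [2], [3], [2, 4]], [[1], [0, 2, 3], [3], [1, 4]], [[0, 1], [0, 2], [0, 3], [0, 4]], [[4], [3], [2], [1]], [[1], [2, 4], [0, 1, 3], [4]]]

/-- possible images of the generators -/
def candsD (i : ℕ) : List (List ℕ) :=
  cond (Nat.beq i 1100) [[103, 151], [102, 150], [140, 188], [322, 370], [975, 1023]] [[3, 51], [2, 50], [140, 188], [614, 662], [503, 551]]

/-- words of value one separating the images -/
def relsD : List (List ℕ) := [[0, 2, 0, 2, 4, 2, 4], [0, 1, 0, 3, 1, 3, 1, 3], [0, 1, 4, 0, 4, 0, 4, 1]]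

/-- generators of the centraliser of the four group with words for them and for their images -/
def torus : List (ℕ × List ℕ × List ℕ) := [(1, [2, 0, 1, 2], [0, 2, 1, 0, 2]), (2, [2, 1, 0, 1, 2], [4, 2, 4]), (4, [2, 0, 1, 2, 1, 0], [4, 2, 4, 1, 0]), (700, [4, 2, 1, 4, 1], [1, 4, 2, 4, 1, 0])]

/-- a word for the element moving the first point to the second -/
def wordQ : List ℕ := [0, 3, 4, 2, 1]

/-- a word for its inverse -/
def wordQInv : List ℕ := [1, 2, 4, 3, 0]

/-- the index of the partner with a given vector -/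
def partIdx (n : ℕ) : ℕ := [124, 1060, 676, 140].getD ([8, 9, 10, 15].idxOf n) 0

/-- a word for it -/
def partWord (n : ℕ) : List ℕ :=
  [[0, 1, 2, 1, 0], [0, 2, 0], [1, 2, 0, 1, 0], [2]].getD ([8, 9, 10, 15].idxOf n) []

/-- the possible configurations -/
def goodConf : List (ℕ × ℕ × ℕ) := [(1100, 8, 10), (1100, 9, 15), (1100, 10, 8), (1100, 15, 9), (1148, 8, 9), (1148, 9, 8), (1148, 10, 15), (1148, 15, 10)]

/-- words for the core indices used -/
def wordIx (x : ℕ) : List ℕ :=
  [[1, 0, 1, 0], [4, 2, 1, 2, 4, 1], [0, 1, 2, 1, 0], [0, 2, 1, 2, 1, 0], [1, 4, 2, 4, 1], [4, 1, 2, 4, 1]].getD ([48, 100, 124, 716, 1100, 1148].idxOf x) []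

end CfsgLib.Recog.SuzIso
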