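import Cfsg.Agent.Lib.Recog.UFourThree.ImageCheck
import Cfsg.Agent.Lib.Recog.SuzIso.DeltaData
import Cfsg.Agent.Lib.Recog.SuzIso.ConfData

set_option autoImplicit false
set_option maxRecDepth 100000
set_option Elab.async false

/-!
The six involutions of U4(3) belonging to a configuration satisfy the relations and generate (owner: helper22).
-/

namespace CfsgLib.Recog.SuzIso

open CfsgLib.Schur.Cert
open CfsgLib.Recog.UFourThree (imgW)

/-- the five elements fixed by the dihedral configuration, as words in the six letters -/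
def fiveWord (n m : ℕ) : List (List ℕ) :=
  [wordIx 48, wordIx 100, wordIx 124, [5] ++ partWord n ++ [5],
    wordQ ++ [5] ++ partWord m ++ [5] ++ wordQInv]

/-- the six involutions as words in the letters -/
def sixWord (i n m : ℕ) (b : List ℕ) : List (List ℕ) :=
  [wordIx 48, b.flatMap fun j => (fiveWord n m).getD j [], wordIx 716, wordIx i, wordIx 100, wordIx 124]

/-- the relations among the six -/
def sixRels : List (List ℕ) :=
  [[0, 0], [1, 1], [2, 2], [3, 3], [4, 4], [5, 5], [0, 1, 0, 1, 0, 1, 0, 1, 0, 1], [0, 2, 0, 2], [0, 3, 0, 3],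
    [0, 4, 0, 4], [0, 5, 0, 5], [1, 2, 1, 2, 1, 2], [1, 3, 1, 3, 1, 3], [1, 4, 1, 4, 1, 4], [1, 5, 1, 5, 1, 5],
    [2, 3, 2, 3, 2, 3, 2, 3], [2, 4, 2, 4], [2, 5, 2, 5], [3, 4, 3, 4], [3, 5, 3, 5], [4, 5, 4, 5, 4, 5, 4, 5],
    [0, 2, 3, 2, 3], [0, 4, 5, 4, 5], (List.replicate 5 [0, 1, 2, 4]).flatten, (List.replicate 5 [0, 1, 3, 4]).flatten,
    (List.replicate 5 [1, 4, 5]).flatten, (List.replicate 5 [1, 2, 3]).flatten,
    (List.replicate 5 [0, 1, 2, 5]).flatten, (List.replicate 5 [0, 1, 3, 5]).flatten]

/-- the image of a point under a word in given permutations -/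
noncomputable def imgP (P w : List ℕ) (x : ℕ) : ℕ := w.foldr (fun c y => pgetN (P.getD c 0) y) x

/-- the check for one configuration -/
noncomputable def confOK (e : (ℕ × ℕ × ℕ) × List ℕ × List ℕ × List (List ℕ)) : Bool :=
  let W := sixWord e.1.1 e.1.2.1 e.1.2.2 e.2.1
  let P := e.2.2.1
  (e.2.1.all fun j => Nat.blt j 5) &&
  ((List.range 6).all fun j => (W.getD j []).all (fun c => Nat.blt c 6) &&
    (List.range 126).all fun x => Nat.beq (imgW (W.getD j []) x) (pgetN (P.getD j 0) x)) &&
  (sixRels.all fun r => (List.range 126).all fun x => Nat.beq (imgP P r x) x) &&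
  ((List.range 6).all fun c => (e.2.2.2.getD c []).all (fun j => Nat.blt j 6) &&
    (List.range 126).all fun x => Nat.beq (imgP P (e.2.2.2.getD c []) x) (imgW [c] x))

/-- the check at a place of the list -/
noncomputable def confAt (j : ℕ) : Bool :=
  confOK (confData.getD j ((0, 0, 0), [], [], []))

theorem conf_0 : confAt 0 = true := by decide +kernel

theorem conf_1 : confAt 1 = true := by decide +kernel

theorem conf_2 : confAt 2 = true := by decide +kernel

theorem conf_3 : confAt 3 = true := by decide +kernel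

theorem conf_4 : confAt 4 = true := by decide +kernel

theorem conf_5 : confAt 5 = true := by decide +kernel

theorem conf_6 : confAt 6 = true := by decide +kernel

theorem conf_7 : confAt 7 = true := by decide +kernel

theorem conf_len : confData.length = 8 := by decide +kernel

theorem conf_check {e : (ℕ × ℕ × ℕ) × List ℕ × List ℕ × List (List ℕ)} (he : e ∈ confData) : confOK e = true := by
  obtain ⟨j, hj, rfl⟩ := List.getElem_of_mem he
  rw [← List.getD_eq_getElem _ ((0, 0, 0), [], [], []) hj]
  show confAt j = true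
  have := conf_len
  rcases (by omega : j = 0 ∨ j = 1 ∨ j = 2 ∨ j = 3 ∨ j = 4 ∨ j = 5 ∨ j = 6 ∨ j = 7) with
    rfl | rfl | rfl | rfl | rfl | rfl | rfl | rfl
  exacts [conf_0, conf_1, conf_2, conf_3, conf_4, conf_5, conf_6, conf_7]

theorem conf_cover : (goodConf.all fun k => confData.any fun e => e.1 == k) = true := by decide +kernel

theorem six_letters : (sixRels.all fun r => r.all fun c => Nat.blt c 6) = true := by decide +kernel

end CfsgLib.Recog.SuzIso
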