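import Cfsg.Agent.Lib.Recog.SuzIso.Partner
import Cfsg.Agent.Lib.Recog.SuzIso.Action
import Cfsg.Agent.Lib.Recog.SuzIso.ConfCheck

set_option autoImplicit false
set_option linter.unusedSectionVars false
set_option maxRecDepth 100000
set_option Elab.async false

/-!
The centralised elements belong to one of eight configurations of the model (owner: helper22).
-/

namespace CfsgLib.Recog.SuzIso

open CfsgLib.LocalEvenB.SuzType CfsgLib.ThreeTrans CfsgLib.Recog.SuzThree
open CfsgLib.Recog.UFourThree (SL23 kx' IsK evw cgens mul cj tList iu sig)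

/-- the vectors used have these forms -/
theorem vec_facts : qb 1 = false ∧ qb 2 = false ∧ qb 4 = false ∧ qb 8 = false ∧ app dFive 1 = 2 ∧ app dFive 2 = 1 ∧
    bb 1 2 = true ∧ bb 4 8 = true ∧ bb 1 4 = false ∧ bb 1 8 = false := by decide +kernel

theorem val_word {H : Type*} [Group H] (D : UFourThree.Adj H) {x : ℕ} {w : List ℕ} (h : isWord w x = true) :
    D.val w = D.psi x := by
  simp only [isWord, five, Bool.and_eq_true, List.all_eq_true, Nat.blt_eq, Nat.beq_eq] at h
  rw [(D.evw_spec h.1).1, h.2]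

theorem five_len {L : List ℕ} (h : L.length = 5) (P : ℕ → Prop) (hP : ∀ c < 5, P (L.getD c 0)) :
    ∀ c < L.length, P (L.getD c 0) := fun c hc => hP c (h ▸ hc)

variable {G : Type*} [Group G] [Finite G] {z : G} {Q : Subgroup G} {p : G → Nat} {y d e : G} {φ : SL23 × SL23 →* G}
  {H : Type*} [Group H] {π : Subgroup.centralizer ({y} : Set G) →* H} {D : UFourThree.Adj H}

/-- the centralised elements -/
theorem Pack.exists_conf (P : Pack z Q p y d e φ π D) :
    ∃ (i n m : ℕ) (L : ℕ → G), (i, n, m) ∈ goodConf ∧ img π (d * kx' φ 716 * d⁻¹) = D.psi i ∧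
      ∀ j < 5, Commute (L j) y ∧ Commute (L j) d ∧ Commute (L j) e ∧
        img π (L j) = D.val ((fiveWord n m).getD j []) := by
  classical
  have hw := word_check
  simp only [Bool.and_eq_true, List.all_eq_true, List.mem_range, Nat.beq_eq, Nat.blt_eq] at hw
  obtain ⟨⟨⟨⟨⟨⟨⟨⟨⟨⟨⟨⟨⟨⟨⟨⟨⟨hq, htor⟩, hwQ⟩, hwI⟩, hcQ⟩, hxQ⟩, hpart⟩, hix⟩, h100⟩, h124⟩, h716⟩, h1100⟩, h1148⟩, hm1⟩,
    hm2⟩, hm3⟩, hm4⟩, hrel⟩ := hw
  obtain ⟨v1, v2, v4, v8, vd1, vd2, v12, v48, -, -⟩ := vec_facts
  have hsys := P.five.std.sys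
  have hsq : ∀ {x : G}, x ∈ Q → qb (p x) = false → x * x = 1 := fun hx h => by rw [hsys.sq _ hx, h]; rfl
  obtain ⟨δ, dI, A, hδ⟩ := P.exists_act
  obtain ⟨fm, fp, fy, fi⟩ := P.core_lift h100
  obtain ⟨gm, gp, gy, gi⟩ := P.core_lift h124
  obtain ⟨cm, cp, cy, ci⟩ := P.core_lift h716
  obtain ⟨c1m, c1p, c1y, c1i⟩ := P.core_lift h1100
  have ff : kx' φ 100 * kx' φ 100 = 1 := hsq fm (by rw [fp, v4])
  have gg : kx' φ 124 * kx' φ 124 = 1 := hsq gm (by rw [gp, v8])
  -- the conjugate of the first vector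
  have hc'm : d * kx' φ 716 * d⁻¹ ∈ Q := hsys.large.conj_mem P.five.d_act.1 cm
  obtain ⟨s, hs⟩ := hsys.eq_of_p c1m hc'm (by rw [P.five.d_act.2 _ cm, cp, vd1, c1p])
  have hback : d * kx' φ 1100 * d⁻¹ = kx' φ 716 * sg z s := by
    have e1 : kx' φ 1100 = d * kx' φ 716 * d⁻¹ * sg z s := by
      rw [hs, mul_assoc, show sg z s * sg z s = 1 from sg_sq hsys s, mul_one]
    rw [e1, show d * (d * kx' φ 716 * d⁻¹ * sg z s) * d⁻¹ = (d * d) * kx' φ 716 * (d⁻¹ * sg z s * d⁻¹) by group,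
      P.five.dd, one_mul, (hsys.sg_comm P.five.d_act.1.inv_left s).eq, mul_assoc (sg z s), P.d_inv, P.five.dd, mul_one]
  have hsgy : Commute (sg z s) y := (hsys.sg_comm P.five.std.act.1 s).symm
  have hdata : ∃ i, (i = 1100 ∨ i = 1148) ∧ img π (d * kx' φ 716 * d⁻¹) = D.psi i ∧ qImg i = qGens.map dI := by
    have e48 : dI 48 = 48 := D.psi_inj (A.lt _) (by norm_num) (by rw [A.spec, A.fix_z])
    have e100 : dI 100 = 100 := D.psi_inj (A.lt _) (by norm_num) (by rw [A.spec]; exact A.fix_u)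
    have e124 : dI 124 = 124 := D.psi_inj (A.lt _) (by norm_num) (by
      rw [A.spec, ← gi, ← hδ _ gy, (P.five.fix _ gm (Or.inr gp)).2.1.eq, mul_inv_cancel_right])
    cases s with
    | false =>
      rw [show sg z false = 1 from rfl, mul_one] at hs hback
      have e716 : dI 716 = 1100 := D.psi_inj (A.lt _) (by norm_num) (by rw [A.spec, ← ci, ← hδ _ cy, hs, c1i])
      have e1100 : dI 1100 = 716 := D.psi_inj (A.lt _) (by norm_num) (by rw [A.spec, ← c1i, ← hδ _ c1y, hback, ci])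
      exact ⟨1100, Or.inl rfl, by rw [hs, c1i], by
        rw [qGens, List.map_cons, List.map_cons, List.map_cons, List.map_cons, List.map_cons, List.map_nil, e48, e716,
          e1100, e100, e124]
        rfl⟩
    | true =>
      have i1 : img π (kx' φ 1100 * z) = D.psi 1148 := by
        rw [img_mul c1y P.z_comm, c1i, P.img_z, ← D.psi_mul (by norm_num) (by norm_num), hm1]
      have i2 : img π (kx' φ 716 * z) = D.psi 764 := by
        rw [img_mul cy P.z_comm, ci, P.img_z, ← D.psi_mul (by norm_num) (by norm_num), hm2]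
      rw [show sg z true = z from rfl] at hs hback
      have e716 : dI 716 = 1148 := D.psi_inj (A.lt _) (by norm_num) (by rw [A.spec, ← ci, ← hδ _ cy, hs, i1])
      have e1100 : dI 1100 = 764 := D.psi_inj (A.lt _) (by norm_num) (by rw [A.spec, ← c1i, ← hδ _ c1y, hback, i2])
      exact ⟨1148, Or.inr rfl, by rw [hs, i1], by
        rw [qGens, List.map_cons, List.map_cons, List.map_cons, List.map_cons, List.map_cons, List.map_nil, e48, e716,
          e1100, e100, e124]
        rfl⟩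
  obtain ⟨i, hi, hic, hqimg⟩ := hdata
  -- the images of the generators
  have hl : cgens.length = 5 := rfl
  have hmem : ∀ c < 5, dI (cgens.getD c 0) ∈ (candsD i).getD c [] := by
    intro c hc
    have hchk : candOK i = true := by
      have := cand_check
      simp only [Bool.and_eq_true] at this
      rcases hi with rfl | rfl
      exacts [this.1, this.2]
    have h := List.all_eq_true.1 (List.all_eq_true.1 hchk c (List.mem_range.2 hc)) (dI (cgens.getD c 0))
      (List.mem_range.2 (A.lt _))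
    have hall : ((List.range 4).all fun j =>
        Nat.beq (cj (dI (cgens.getD c 0)) ((qImg i).getD (j + 1) 0)) (evi (qImg i) ((qCase.getD c []).getD j []))) =
        true := by
      simp only [List.all_eq_true, List.mem_range, Nat.beq_eq]
      intro j hj
      obtain ⟨hwl, hev⟩ := hq c hc j hj
      have hqlt : ∀ g < qGens.length, qGens.getD g 0 < 1152 := by decide +kernel
      have hg1 : qGens.getD (j + 1) 0 < 1152 := hqlt _ (by show j + 1 < 5; omega)
      rw [hqimg, ← (A.evi' hqlt hwl).2, hev, A.cj' (D.a_gen hc).2 hg1]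
      congr 1
      interval_cases j <;> rfl
    rw [hall, Bool.not_true, Bool.false_or, List.contains_iff_mem] at h
    exact h
  set im := cgens.map dI with him
  have him5 : im = [dI (cgens.getD 0 0), dI (cgens.getD 1 0), dI (cgens.getD 2 0), dI (cgens.getD 3 0),
      dI (cgens.getD 4 0)] := rfl
  have hchk : imgOK i im = true := by
    have hd : deltaOK i = true := by
      have := delta_check
      simp only [Bool.and_eq_true] at this
      rcases hi with rfl | rfl
      exacts [this.1, this.2]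
    simp only [deltaOK, List.all_eq_true] at hd
    rw [him5]
    exact hd _ (hmem 0 (by norm_num)) _ (hmem 1 (by norm_num)) _ (hmem 2 (by norm_num)) _ (hmem 3 (by norm_num)) _
      (hmem 4 (by norm_num))
  have hr0 : (relsD.all fun w => Nat.beq (evi im w) 0) = true := by
    simp only [List.all_eq_true, Nat.beq_eq]
    intro w hw'
    rw [him, ← (A.word (hrel w hw')).2, A.zero]
  simp only [imgOK, hr0, Bool.not_true, Bool.false_or, Bool.and_eq_true, List.all_eq_true,
    List.contains_iff_mem] at hchk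
  obtain ⟨hrT, hchk⟩ := hchk
  -- the swapping element
  have hgc : ∀ {x : ℕ}, x < 1152 → D.psi x * D.psi iu = D.psi iu * D.psi x → x ∈ tList := fun hx h =>
    tList_mem hx ((UFourThree.Ctx.psi_commB D.toCtx hx UFourThree.iu_isK.1).1 h)
  obtain ⟨t, ht, hgt⟩ : ∃ t ∈ tList, δ D.g = D.g * D.psi t := by
    have e1 : δ D.g * D.psi 48 * (δ D.g)⁻¹ = D.psi iu := by
      conv_lhs => rw [← A.fix_z]
      rw [← map_inv, ← map_mul, ← map_mul, D.g_z, A.fix_u]
    have e2 : δ D.g * D.psi iu * (δ D.g)⁻¹ = D.psi 48 := by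
      conv_lhs => rw [← A.fix_u]
      rw [← map_inv, ← map_mul, ← map_mul, D.g_u, A.fix_z]
    have k1 : (D.g⁻¹ * δ D.g) * D.psi 48 = D.psi 48 * (D.g⁻¹ * δ D.g) :=
      calc (D.g⁻¹ * δ D.g) * D.psi 48 = D.g⁻¹ * (δ D.g * D.psi 48 * (δ D.g)⁻¹) * δ D.g := by group
        _ = D.g⁻¹ * (D.g * D.psi 48 * D.g⁻¹) * δ D.g := by rw [e1, D.g_z]
        _ = _ := by group
    have k2 : (D.g⁻¹ * δ D.g) * D.psi iu = D.psi iu * (D.g⁻¹ * δ D.g) :=
      calc (D.g⁻¹ * δ D.g) * D.psi iu = D.g⁻¹ * (δ D.g * D.psi iu * (δ D.g)⁻¹) * δ D.g := by group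
        _ = D.g⁻¹ * (D.g * D.psi iu * D.g⁻¹) * δ D.g := by rw [e2, D.g_u]
        _ = _ := by group
    obtain ⟨x, hx, he⟩ := D.psi_surj k1
    exact ⟨x, hgc hx (by rw [he]; exact k2), by rw [he, mul_inv_cancel_left]⟩
  obtain ⟨htlt, -, htc⟩ := t_facts ht
  have hgi : D.g⁻¹ = D.g := inv_eq_of_mul_eq_one_right D.g_sq
  have hflip : ∀ {x : ℕ}, x < 1152 → δ (D.g * D.psi x * D.g⁻¹) = D.g * D.psi (cj t (dI x)) * D.g⁻¹ := by
    intro x hx
    rw [map_mul, map_mul, map_inv, ← A.spec, hgt, UFourThree.Ctx.psi_cj D.toCtx htlt (A.lt _)]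
    group
  have htorus : torusOK im t = true := by
    simp only [torusOK, List.all_eq_true, Bool.and_eq_true, Nat.beq_eq, List.contains_iff_mem]
    intro en hen
    obtain ⟨⟨hw1, hxT⟩, hw2⟩ := htor en hen
    rw [List.contains_iff_mem] at hxT
    obtain ⟨hxlt, -, hxc⟩ := t_facts hxT
    have hX := UFourThree.cj_lt htlt (A.lt en.1)
    rw [him, ← (A.word hw1).2, ← (A.word hw2).2]
    have hXT : cj t (dI en.1) ∈ tList := by
      refine hgc hX ?_
      have c1 : Commute (D.psi t) (D.psi iu) := (UFourThree.Ctx.psi_commB D.toCtx htlt UFourThree.iu_isK.1).2 htc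
      have c2 : Commute (D.psi (dI en.1)) (D.psi iu) := by
        have := (show Commute (D.psi en.1) (D.psi iu) from
          (UFourThree.Ctx.psi_commB D.toCtx hxlt UFourThree.iu_isK.1).2 hxc).map δ
        rwa [← A.spec, A.fix_u] at this
      rw [UFourThree.Ctx.psi_cj D.toCtx htlt (A.lt _)]
      exact (c1.mul_left c2).mul_left c1.inv_left
    refine ⟨hXT, D.psi_inj (A.lt _) (t_facts hXT).2.1 ?_⟩
    rw [A.spec, ← D.g_sig _ hxT, hflip hxlt, D.g_sig _ hXT]
  -- the two conjugating elements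
  obtain ⟨⟨k0, hk0⟩, hk0i⟩ := P.surj D.g
  have hk0y : Commute k0 y := mem_centralizer_singleton_iff'.1 hk0
  have hk0g : img π k0 = D.g := by rw [img_eq hk0y]; exact hk0i
  obtain ⟨j, hj⟩ := mem_powers_iff_mem_zpowers.2 ((P.img_pow (hk0y.mul_left hk0y)).1
    (by rw [img_mul hk0y hk0y, hk0g, D.g_sq]))
  have hj' : k0 * k0 = y ^ j := hj.symm
  have hypow : ∀ l : ℕ, Commute (y ^ l) y := fun l => (Commute.refl y).pow_left l
  set k := k0 * y ^ j with hk
  have hky : Commute k y := hk0y.mul_left (hypow j)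
  have hkg : img π k = D.g := by
    rw [hk, img_mul hk0y (hypow j), hk0g, (P.img_pow (hypow j)).2 (Subgroup.npow_mem_zpowers y j), mul_one]
  have hkk : k * k = 1 := by
    rw [hk, show k0 * y ^ j * (k0 * y ^ j) = k0 * (y ^ j * k0) * y ^ j by group, ← (hk0y.pow_right j).eq,
      ← mul_assoc, hj', ← pow_add, ← pow_add, show j + j + j = 3 * j by ring, pow_mul, pow_succ, pow_two,
      P.five.std.cube, one_pow]
  have hki : k⁻¹ = k := inv_eq_of_mul_eq_one_right hkk
  have hkz : k * z * k⁻¹ = kx' φ 100 := by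
    refine P.inv_unique ((hky.mul_left P.z_comm).mul_left hky.inv_left) fy
      (conj_sq_one hsys.large.mul_self_z k) ff ?_
    rw [img_conj hky P.z_comm, hkg, P.img_z, D.g_z, fi]
    rfl
  have hkz' : k⁻¹ * z * k = kx' φ 100 := by rw [← hkz, hki]
  set q := kx' φ 12 with hqdef
  have hqy : Commute q y := P.fac.comm_y _
  have hqK : IsK 12 := ⟨by norm_num, hxQ⟩
  have hqi : img π q = D.psi 12 := by rw [img_eq hqy]; exact (P.link 12 hqK _).symm
  set k2 := q * k with hk2
  have hk2y : Commute k2 y := hqy.mul_left hky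
  have hk2z : k2 * z * k2⁻¹ = kx' φ 124 := by
    refine P.inv_unique ((hk2y.mul_left P.z_comm).mul_left hk2y.inv_left) gy
      (conj_sq_one hsys.large.mul_self_z k2) gg ?_
    rw [show k2 * z * k2⁻¹ = q * (k * z * k⁻¹) * q⁻¹ by rw [hk2]; group, hkz, img_conj hqy fy, hqi, fi, gi,
      ← UFourThree.Ctx.psi_cj D.toCtx (by norm_num) (by norm_num)]
    congr 1
  have hk2z' : k2⁻¹ * z * k2 = kx' φ 100 := by
    rw [show k2⁻¹ * z * k2 = k⁻¹ * (q⁻¹ * z * q) * k by rw [hk2]; group,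
      (show Commute q z from P.fac.comm_z _).inv_left.eq, inv_mul_cancel_right, hkz']
  obtain ⟨n, hn, hnf⟩ := exists_partner P.five hky (hkz ▸ fm) (Or.inl (hkz ▸ fp)) (hkz' ▸ fm) (hkz' ▸ fp)
  obtain ⟨m, hm, hmf⟩ := exists_partner P.five hk2y (hk2z ▸ gm) (Or.inr (hk2z ▸ gp)) (hk2z' ▸ fm) (hk2z' ▸ fp)
  have hpn : ∀ {l : ℕ}, l ∈ partners → isWord (partWord l) (partIdx l) = true ∧ coreP (partIdx l) l = true :=
    fun h => hpart _ h
  obtain ⟨hnw, hnc⟩ := hpn hn
  obtain ⟨hmw, hmc⟩ := hpn hm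
  obtain ⟨am, ap, ay, ai⟩ := P.core_lift hnc
  obtain ⟨bm', bp, by', bi⟩ := P.core_lift hmc
  obtain ⟨n1, n2, n3⟩ := hnf _ am ap
  obtain ⟨m1, m2, m3⟩ := hmf _ bm' bp
  have hcancel : ∀ {x x' : ℕ}, x < 1152 → x' < 1152 → D.g * D.psi x * D.g⁻¹ = D.g * D.psi x' * D.g⁻¹ → x = x' :=
    fun hx hx' h => D.psi_inj hx hx' (mul_left_cancel (mul_right_cancel h))
  have hfixN : fixN im t n = true := by
    rw [fixN, Nat.beq_eq, him, ← (A.word hnw).2]
    refine hcancel (UFourThree.cj_lt htlt (A.lt _)) (A.word hnw).1 ?_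
    rw [← hflip (A.word hnw).1, ← hkg, ← ai, ← img_conj hky ay, ← hδ _ n1, n2.symm.eq, mul_inv_cancel_right]
  obtain ⟨hrlt, hsr, -⟩ := t_facts hrT
  have hqr : D.psi (rOf im) = (D.psi 12)⁻¹ * δ (D.psi 12) := by
    rw [rOf, him, ← (A.word hwQ).2, D.psi_mul (UFourThree.inv_spec (by norm_num)).2.1 (A.lt _),
      UFourThree.Ctx.psi_inv D.toCtx (by norm_num), A.spec]
  have hfixM : fixM im t (rOf im) m = true := by
    rw [fixM, Nat.beq_eq, him, ← (A.word hmw).2, ← him]
    refine hcancel (UFourThree.cj_lt hsr (UFourThree.cj_lt htlt (A.lt _))) (A.word hmw).1 ?_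
    have hv : img π (k2 * kx' φ (partIdx m) * k2⁻¹) =
        D.psi 12 * (D.g * D.psi (partIdx m) * D.g⁻¹) * (D.psi 12)⁻¹ := by
      rw [img_conj hk2y by', hk2, img_mul hqy hky, hqi, hkg, bi]
      group
    have hd : δ (D.psi 12 * (D.g * D.psi (partIdx m) * D.g⁻¹) * (D.psi 12)⁻¹) =
        D.psi 12 * (D.g * D.psi (partIdx m) * D.g⁻¹) * (D.psi 12)⁻¹ := by
      rw [← hv, ← hδ _ m1, m2.symm.eq, mul_inv_cancel_right]
    rw [map_mul, map_mul, map_inv, hflip (A.word hmw).1, show δ (D.psi 12) = D.psi 12 * D.psi (rOf im) by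
      rw [hqr, mul_inv_cancel_left]] at hd
    have hsig : D.psi (rOf im) * D.g = D.g * D.psi (sig (rOf im)) := by
      rw [← D.g_sig _ hrT, hgi, ← mul_assoc, ← mul_assoc, D.g_sq, one_mul]
    rw [UFourThree.Ctx.psi_cj D.toCtx hsr (UFourThree.cj_lt htlt (A.lt _))]
    calc D.g * (D.psi (sig (rOf im)) * D.psi (cj t (dI (partIdx m))) * (D.psi (sig (rOf im)))⁻¹) * D.g⁻¹
        = (D.g * D.psi (sig (rOf im))) * D.psi (cj t (dI (partIdx m))) * (D.g * D.psi (sig (rOf im)))⁻¹ := by group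
      _ = (D.psi 12)⁻¹ * ((D.psi 12 * D.psi (rOf im)) * (D.g * D.psi (cj t (dI (partIdx m))) * D.g⁻¹) *
            (D.psi 12 * D.psi (rOf im))⁻¹) * D.psi 12 := by rw [← hsig]; group
      _ = _ := by rw [hd]; group
  have hgood : (i, n, m) ∈ goodConf := by
    have h := hchk t ht
    simp only [htorus, Bool.not_true, Bool.false_or, List.all_eq_true] at h
    simpa [hfixN, hfixM] using h n hn m hm
  refine ⟨i, n, m, fun l => [z, kx' φ 100, kx' φ 124, k * kx' φ (partIdx n) * k⁻¹,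
    k2 * kx' φ (partIdx m) * k2⁻¹].getD l 1, hgood, hic, ?_⟩
  have hv : ∀ {x : ℕ}, x ∈ [48, 100, 124, 716, 1100, 1148] → D.val (wordIx x) = D.psi x := fun hx =>
    val_word D (hix _ hx).1
  intro l hl5
  rcases (by omega : l = 0 ∨ l = 1 ∨ l = 2 ∨ l = 3 ∨ l = 4) with rfl | rfl | rfl | rfl | rfl <;>
    simp only [fiveWord, List.getD_cons_zero, List.getD_cons_succ]
  · exact ⟨P.z_comm, P.five.d_act.1.symm, P.five.e_act.1.symm, by rw [P.img_z, hv (by simp)]⟩
  · obtain ⟨-, f2, f3⟩ := P.five.fix _ fm (Or.inl fp)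
    exact ⟨fy, f2.symm, f3.symm, by rw [fi, hv (by simp)]⟩
  · obtain ⟨-, f2, f3⟩ := P.five.fix _ gm (Or.inr gp)
    exact ⟨gy, f2.symm, f3.symm, by rw [gi, hv (by simp)]⟩
  · refine ⟨n1, n2, n3, ?_⟩
    have h5 : D.val [5] = D.g := by rw [D.val_cons, D.val_nil, mul_one, D.a_five]
    rw [img_conj hky ay, hkg, ai, D.val_append, D.val_append, h5, val_word D hnw, hgi]
  · refine ⟨m1, m2, m3, ?_⟩
    have h5 : D.val [5] = D.g := by rw [D.val_cons, D.val_nil, mul_one, D.a_five]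
    rw [img_conj hk2y by', hk2, img_mul hqy hky, hqi, hkg, bi, D.val_append, D.val_append, D.val_append,
      D.val_append, h5, val_word D hmw, val_word D hwQ, val_word D hwI,
      UFourThree.Ctx.psi_inv D.toCtx (by norm_num), mul_inv_rev, hgi]
    group

end CfsgLib.Recog.SuzIso
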