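import Cfsg.Agent.Lib.Recog.SuzThree.Product
import Cfsg.Agent.Lib.Recog.SuzIso.DeltaData

set_option autoImplicit false
set_option maxRecDepth 100000
set_option Elab.async false

/-!
Checks on the actions of the inverting involution on the model of the centraliser of an involution of U4(3)
(owner: helper22).
-/

namespace CfsgLib.Recog.SuzIso

open CfsgLib.LocalEvenB.SuzType CfsgLib.Recog.SuzThree
open CfsgLib.Recog.UFourThree (mul cj cgens evw tList qList sig xa xb xw commB iu)

/-- value of a word in given images -/
def evi (img : List ℕ) : List ℕ → ℕ
  | [] => 0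
  | c :: t => mul (img.getD c 0) (evi img t)

/-- the letters of a word are among the five -/
def five (w : List ℕ) : Bool := w.all fun c => Nat.blt c 5

/-- a word with a given value -/
def isWord (w : List ℕ) (x : ℕ) : Bool := five w && Nat.beq (evw w) x

/-- the coordinates of a core index -/
def coreP (x n : ℕ) : Bool :=
  qList.contains x && Nat.beq (cd (xa x)).2.2 0 && Nat.beq (cd (xb x)).2.2 0 &&
    Nat.beq (ptab rTwo 3 (cd (xa x)).2.1 ^^^ ptab rThree 7 (cd (xb x)).2.1) n

/-- the partners' vectors -/
def partNs : List ℕ := [8, 9, 10, 15]

/-- the restriction to the core determines the images up to two choices -/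
def candOK (i : ℕ) : Bool :=
  (List.range 5).all fun c => (List.range 1152).all fun y =>
    !((List.range 4).all fun j =>
        Nat.beq (cj y ((qImg i).getD (j + 1) 0)) (evi (qImg i) ((qCase.getD c []).getD j []))) ||
      ((candsD i).getD c []).contains y

/-- conditions from the swapping element -/
def torusOK (img : List ℕ) (t : ℕ) : Bool :=
  torus.all fun e => tList.contains (cj t (evi img e.2.1)) &&
    Nat.beq (evi img e.2.2) (sig (cj t (evi img e.2.1)))

/-- the first partner is fixed -/
def fixN (img : List ℕ) (t n : ℕ) : Bool := Nat.beq (cj t (evi img (partWord n))) (partIdx n)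

/-- the second partner is fixed -/
def fixM (img : List ℕ) (t r m : ℕ) : Bool :=
  Nat.beq (cj (sig r) (cj t (evi img (partWord m)))) (partIdx m)

/-- the element moving the first point, after and before -/
def rOf (img : List ℕ) : ℕ := mul (UFourThree.inv 12) (evi img wordQ)

/-- one possible action -/
def imgOK (i : ℕ) (img : List ℕ) : Bool :=
  !(relsD.all fun w => Nat.beq (evi img w) 0) || (tList.contains (rOf img) &&
    tList.all fun t => !(torusOK img t) || partNs.all fun n => partNs.all fun m =>
      !(fixN img t n && fixM img t (rOf img) m) || goodConf.contains (i, n, m))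

/-- all possible actions -/
def deltaOK (i : ℕ) : Bool :=
  ((candsD i).getD 0 []).all fun a => ((candsD i).getD 1 []).all fun b => ((candsD i).getD 2 []).all fun c =>
    ((candsD i).getD 3 []).all fun d => ((candsD i).getD 4 []).all fun e => imgOK i [a, b, c, d, e]

theorem cand_check : (candOK 1100 && candOK 1148) = true := by decide +kernel

theorem delta_check : (deltaOK 1100 && deltaOK 1148) = true := by decide +kernel

theorem word_check : (
    ((List.range 5).all fun c => (List.range 4).all fun j =>
      (((qCase.getD c []).getD j []).all fun g => Nat.blt g 5) &&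
      Nat.beq (evi qGens ((qCase.getD c []).getD j [])) (cj (cgens.getD c 0) (qGens.getD (j + 1) 0))) &&
    (torus.all fun e => isWord e.2.1 e.1 && tList.contains e.1 && isWord e.2.2 (sig e.1)) &&
    isWord wordQ 12 && isWord wordQInv (UFourThree.inv 12) && Nat.beq (cj 12 iu) 124 && Nat.beq (xw 12) 0 &&
    (partNs.all fun n => isWord (partWord n) (partIdx n) && coreP (partIdx n) n) &&
    ([48, 100, 124, 716, 1100, 1148].all fun x => isWord (wordIx x) x && Nat.blt x 1152) &&
    coreP 100 4 && coreP 124 8 && coreP 716 1 && coreP 1100 2 && coreP 1148 2 &&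
    Nat.beq (mul 1100 48) 1148 && Nat.beq (mul 716 48) 764 && Nat.beq (mul 764 48) 716 && Nat.beq (mul 48 48) 0 &&
    (relsD.all fun w => isWord w 0)) = true := by decide +kernel

end CfsgLib.Recog.SuzIso
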