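import Cfsg.Agent.Lib.LocalEvenB.SuzType.Locals.Levi
import Cfsg.Agent.Lib.Recog.SuzThree.Centralizer

set_option autoImplicit false
set_option linter.unusedSectionVars false
set_option maxRecDepth 100000

/-!
Suz type: an alternating group of degree five centralising a dihedral group of order eight, around an element of order
three (owner: helper22).
-/

namespace CfsgLib.Recog.SuzIso

open CfsgLib.LocalEvenB.SuzType CfsgLib.ThreeTrans CfsgLib.Recog.SuzThree

/-- the map of the inverting involution -/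
def dFive : List Nat := [2, 1, 4, 8, 16, 48]

/-- the map of the fusing involution -/
def eFive : List Nat := [1, 19, 4, 8, 16, 33]

/-- the inverting involution in the Levi list -/
def dLev : List Nat := [1, 2, 8, 4, 16, 48]

/-- the fusing involution in the Levi list -/
def eLev : List Nat := [1, 2, 4, 28, 16, 36]

theorem five_data :
    (levList.map Prod.fst).contains rOne = true ∧ (levList.map Prod.fst).contains dLev = true ∧
    (levList.map Prod.fst).contains eLev = true ∧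
    comp czeroM rOne = comp rOne czeroM ∧ comp czeroM dLev = comp dFive czeroM ∧
    comp czeroM eLev = comp eFive czeroM ∧
    comp rOne (comp rOne rOne) = one ∧ comp dLev dLev = one ∧ comp eLev eLev = one ∧
    comp dLev (comp rOne dLev) = comp rOne rOne ∧
    comp (comp dLev eLev) (comp (comp dLev eLev) (comp dLev eLev)) = one ∧
    comp (comp rOne eLev) (comp (comp rOne eLev) (comp rOne eLev)) = one ∧
    (∀ n < 64, app czeroM n = 4 → n = 1) ∧ (∀ n < 64, app czeroM n = 8 → n = 2) ∧ app eFive 1 = 1 := by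
  refine ⟨?_, ?_, ?_, ?_, ?_, ?_, ?_, ?_, ?_, ?_, ?_, ?_, ?_, ?_, ?_⟩ <;> decide +kernel

variable {G : Type*} [Group G] [Finite G] {z : G} {Q : Subgroup G} {p : G → Nat}

/-- An alternating group of degree five centralising the lifts of two vectors. -/
structure Five (z : G) (Q : Subgroup G) (p : G → Nat) (y d e : G) : Prop where
  std : Std z Q p y
  d_act : Acts z Q p d dFive
  e_act : Acts z Q p e eFive
  dd : d * d = 1
  ee : e * e = 1
  dy : d * y * d⁻¹ = y * y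
  de3 : d * e * (d * e) * (d * e) = 1
  ye3 : y * e * (y * e) * (y * e) = 1
  fix : ∀ a ∈ Q, p a = 4 ∨ p a = 8 → Commute y a ∧ Commute d a ∧ Commute e a
  e_one : ∀ a ∈ Q, p a = 1 → Commute e a

theorem exists_five (h : Sys z Q p) (hn : ∃ g : G, g * z * g⁻¹ ∈ Q ∧ g * z * g⁻¹ ≠ z) :
    ∃ y d e, Five z Q p y d e := by
  classical
  obtain ⟨k, F⟩ := exists_frame h hn
  obtain ⟨b, β, R⟩ := F.exists_pair
  obtain ⟨m1, m2, m3, cy, cd', ce, hy3, hdd, hee, hdy, hde, hye, h4, h8, he1⟩ := five_data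
  obtain ⟨hcl, c, hc⟩ := h.acts_word czeroW
  have hdw := data_words
  simp only [Bool.and_eq_true, beq_iff_eq] at hdw
  rw [← (show czeroM = wmap czeroW by simpa using hdw.1.1.1.2)] at hcl hc
  obtain ⟨y0, hy0, ay⟩ := R.exists_levi (List.contains_iff_mem.1 m1)
  obtain ⟨d0, hd0, ad⟩ := R.exists_levi (List.contains_iff_mem.1 m2)
  obtain ⟨e0, he0, ae⟩ := R.exists_levi (List.contains_iff_mem.1 m3)
  have hrel : ∀ {x : G}, x ∈ leviGroup z k b β → Acts z Q p x one → x = 1 := fun hx ha =>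
    R.eq_one_of_mem hx (h.mem_of_acts_one ha)
  have hl : rOne.length = 6 ∧ dLev.length = 6 ∧ eLev.length = 6 := ⟨rfl, rfl, rfl⟩
  have e1 : y0 * (y0 * y0) = 1 :=
    hrel (mul_mem hy0 (mul_mem hy0 hy0)) (hy3 ▸ acts_cube h hl.1 ay)
  have e2 : d0 * d0 = 1 := hrel (mul_mem hd0 hd0) (hdd ▸ h.acts_mul hl.2.1 ad ad)
  have e3 : e0 * e0 = 1 := hrel (mul_mem he0 he0) (hee ▸ h.acts_mul hl.2.2 ae ae)
  have e4 : d0 * (y0 * d0) = y0 * y0 :=
    R.levi_unique (mul_mem hd0 (mul_mem hy0 hd0)) (mul_mem hy0 hy0)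
      (hdy ▸ h.acts_mul (by rfl) ad (h.acts_mul hl.2.1 ay ad)) (h.acts_mul hl.1 ay ay)
  have e5 : d0 * e0 * ((d0 * e0) * (d0 * e0)) = 1 :=
    hrel (mul_mem (mul_mem hd0 he0) (mul_mem (mul_mem hd0 he0) (mul_mem hd0 he0)))
      (hde ▸ acts_cube h (by rfl) (h.acts_mul hl.2.2 ad ae))
  have e6 : y0 * e0 * ((y0 * e0) * (y0 * e0)) = 1 :=
    hrel (mul_mem (mul_mem hy0 he0) (mul_mem (mul_mem hy0 he0) (mul_mem hy0 he0)))
      (hye ▸ acts_cube h (by rfl) (h.acts_mul hl.2.2 ay ae))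
  obtain ⟨hf, hfd⟩ : ∃ f : G →* G, ∀ x, f x = c * x * c⁻¹ :=
    ⟨(MulAut.conj c).toMonoidHom, fun x => rfl⟩
  have hS : Std z Q p (hf y0) := by
    refine ⟨h, ?_, ?_⟩
    · rw [← map_mul, ← map_mul, mul_assoc, e1, map_one]
    · rw [hfd]; exact h.acts_conj hcl hl.1 rfl hc ay cy
  have hd : Acts z Q p (hf d0) dFive := by rw [hfd]; exact h.acts_conj hcl hl.2.1 rfl hc ad cd'
  have he : Acts z Q p (hf e0) eFive := by rw [hfd]; exact h.acts_conj hcl hl.2.2 rfl hc ae ce
  have hdi : d0⁻¹ = d0 := inv_eq_of_mul_eq_one_right e2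
  have hye' : hf y0 * hf e0 * (hf y0 * hf e0) * (hf y0 * hf e0) = 1 := by
    rw [← map_mul, ← map_mul, ← map_mul, mul_assoc, e6, map_one]
  have hfix : ∀ a ∈ Q, p a = 4 ∨ p a = 8 → ∀ x ∈ leviGroup z k b β, Commute (hf x) a := by
    intro a ha hpa x hx
    obtain ⟨hxz, hxX, hxb, -⟩ := R.mem_levi.1 hx
    have hm := h.large.conj_mem hc.1.inv_left ha
    have happ : app czeroM (p (c⁻¹ * a * c⁻¹⁻¹)) = p a := by
      rw [← hc.2 _ hm]; congr 1; group
    have hcom : Commute x (c⁻¹ * a * c⁻¹⁻¹) := by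
      rcases hpa with e | e
      · obtain ⟨i, e'⟩ := h.eq_of_p F.memQ hm (F.px.trans (h4 _ (h.lt _ hm) (happ.trans e)).symm)
        rw [e']; exact hxX.mul_right (h.sg_comm hxz i)
      · obtain ⟨i, e'⟩ := h.eq_of_p R.b_mem hm (R.b_vec.trans (h8 _ (h.lt _ hm) (happ.trans e)).symm)
        rw [e']; exact hxb.mul_right (h.sg_comm hxz i)
    have h1 := hcom.map hf
    rwa [hfd (c⁻¹ * a * c⁻¹⁻¹), show c * (c⁻¹ * a * c⁻¹⁻¹) * c⁻¹ = a by group] at h1
  refine ⟨hf y0, hf d0, hf e0, hS, hd, he, ?_, ?_, ?_, ?_, hye',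
    fun a ha hpa => ⟨hfix a ha hpa y0 hy0, hfix a ha hpa d0 hd0, hfix a ha hpa e0 he0⟩, fun a ha hpa => ?_⟩
  · rw [← map_mul, e2, map_one]
  · rw [← map_mul, e3, map_one]
  · rw [← map_inv, ← map_mul, ← map_mul, ← map_mul, hdi, mul_assoc, e4]
  · rw [← map_mul, ← map_mul, ← map_mul, mul_assoc, e5, map_one]
  · -- the sign of the fused vector
    have hy : Commute (hf y0) a := (hS.mem_core_iff ha).2 (by rw [hpa]; norm_num)
    obtain ⟨i, e⟩ := h.eq_of_p ha (h.large.conj_mem he.1 ha) (by rw [he.2 a ha, hpa, he1])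
    have hc1 : hf y0 * hf e0 * a * (hf y0 * hf e0)⁻¹ = a * sg z i := by
      calc hf y0 * hf e0 * a * (hf y0 * hf e0)⁻¹ = hf y0 * (hf e0 * a * (hf e0)⁻¹) * (hf y0)⁻¹ := by group
        _ = hf y0 * a * (hf y0)⁻¹ * (hf y0 * sg z i * (hf y0)⁻¹) := by rw [e]; group
        _ = _ := by rw [hy.eq, mul_inv_cancel_right, (h.sg_comm hS.act.1 i).eq, mul_inv_cancel_right]
    have hs : hf y0 * hf e0 * sg z i * (hf y0 * hf e0)⁻¹ = sg z i := by
      rw [(h.sg_comm (hS.act.1.mul_left he.1) i).eq, mul_inv_cancel_right]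
    generalize hu : hf y0 * hf e0 = u at hc1 hs hye'
    have e7 : a = a * (sg z i * sg z i * sg z i) := by
      calc a = u * u * u * a * (u * u * u)⁻¹ := by rw [hye']; group
        _ = u * (u * (u * a * u⁻¹) * u⁻¹) * u⁻¹ := by group
        _ = u * (u * (a * sg z i) * u⁻¹) * u⁻¹ := by rw [hc1]
        _ = u * (u * a * u⁻¹ * (u * sg z i * u⁻¹)) * u⁻¹ := by group
        _ = u * (a * sg z i * sg z i) * u⁻¹ := by rw [hc1, hs]
        _ = (u * a * u⁻¹) * (u * sg z i * u⁻¹) * (u * sg z i * u⁻¹) := by group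
        _ = _ := by rw [hc1, hs]; group
    rw [sg_cube h (by simpa using e7.symm), mul_one] at e
    exact mul_inv_eq_iff_eq_mul.1 e

end CfsgLib.Recog.SuzIso
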