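import Cfsg.Agent.Lib.Recog.SuzThree.BaseData
import Cfsg.Agent.Lib.Recog.UFourThree.Global
import Cfsg.Agent.Lib.Recog.SuzIso.Five
import Cfsg.Agent.Lib.Recog.SuzIso.DeltaCheck

set_option autoImplicit false
set_option linter.unusedSectionVars false
set_option maxRecDepth 100000
set_option Elab.async false

/-!
The centraliser of the element of order three, read modulo that element in the model of PSU(4,3)
(owner: helper22).
-/

namespace CfsgLib.Recog.SuzIso

open CfsgLib.LocalEvenB.SuzType CfsgLib.ThreeTrans CfsgLib.Recog.SuzThree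
open CfsgLib.Recog.UFourThree (SL23 kx' IsK xw evw cgens mul cj)

/-- the centraliser data -/
structure Pack {G : Type*} [Group G] [Finite G] (z : G) (Q : Subgroup G) (p : G → Nat) (y d e : G)
    (φ : SL23 × SL23 →* G) {H : Type*} [Group H] (π : Subgroup.centralizer ({y} : Set G) →* H)
    (D : UFourThree.Adj H) : Prop where
  five : Five z Q p y d e
  fac : Fac z Q p y φ
  surj : Function.Surjective π
  ker : ∀ x, π x = 1 ↔ (x : G) ∈ Subgroup.zpowers y
  link : ∀ x, IsK x → ∀ hx, D.psi x = π ⟨kx' φ x, hx⟩

variable {G : Type*} [Group G] [Finite G] {z : G} {Q : Subgroup G} {p : G → Nat} {y d e : G} {φ : SL23 × SL23 →* G}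
  {H : Type*} [Group H] {π : Subgroup.centralizer ({y} : Set G) →* H} {D : UFourThree.Adj H}

/-- the image of an element commuting with the element of order three -/
noncomputable def img (π : Subgroup.centralizer ({y} : Set G) →* H) (x : G) : H :=
  haveI := Classical.dec (Commute x y)
  if h : Commute x y then π ⟨x, mem_centralizer_singleton_iff'.2 h⟩ else 1

theorem img_eq {x : G} (hx : Commute x y) : img π x = π ⟨x, mem_centralizer_singleton_iff'.2 hx⟩ := dif_pos hx

theorem img_mul {a b : G} (ha : Commute a y) (hb : Commute b y) : img π (a * b) = img π a * img π b := by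
  rw [img_eq ha, img_eq hb, img_eq (ha.mul_left hb), ← map_mul]; rfl

theorem img_inv {a : G} (ha : Commute a y) : img π a⁻¹ = (img π a)⁻¹ := by
  rw [img_eq ha, img_eq ha.inv_left, ← map_inv]; rfl

theorem img_one : img π (1 : G) = 1 := by rw [img_eq (Commute.one_left y), ← map_one π]; rfl

theorem img_conj {g a : G} (hg : Commute g y) (ha : Commute a y) :
    img π (g * a * g⁻¹) = img π g * img π a * (img π g)⁻¹ := by
  rw [img_mul (hg.mul_left ha) hg.inv_left, img_mul hg ha, img_inv hg]

theorem prod_comm {a : ℕ → G} {u : G} : ∀ {w : List ℕ}, (∀ j ∈ w, Commute (a j) u) → Commute (w.map a).prod u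
  | [], _ => by simp
  | j :: w, h => by
    rw [List.map_cons, List.prod_cons]
    exact (h j List.mem_cons_self).mul_left (prod_comm fun i hi => h i (List.mem_cons_of_mem _ hi))

theorem img_prod {a : ℕ → G} : ∀ {w : List ℕ}, (∀ j ∈ w, Commute (a j) y) →
    img π (w.map a).prod = (w.map fun j => img π (a j)).prod
  | [], _ => by simpa using img_one
  | j :: w, h => by
    rw [List.map_cons, List.prod_cons, List.map_cons, List.prod_cons,
      img_mul (h j List.mem_cons_self) (prod_comm fun i hi => h i (List.mem_cons_of_mem _ hi)),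
      img_prod fun i hi => h i (List.mem_cons_of_mem _ hi)]

/-- the index lifts into the core -/
theorem core_spec {x n : ℕ} (h : coreP x n = true) :
    IsK x ∧ x ∈ UFourThree.qList ∧ (cd (UFourThree.xa x)).2.2 = 0 ∧ (cd (UFourThree.xb x)).2.2 = 0 ∧
      ptab rTwo 3 (cd (UFourThree.xa x)).2.1 ^^^ ptab rThree 7 (cd (UFourThree.xb x)).2.1 = n := by
  simp only [coreP, Bool.and_eq_true, List.contains_iff_mem, Nat.beq_eq] at h
  obtain ⟨⟨⟨h1, h2⟩, h3⟩, h4⟩ := h
  exact ⟨UFourThree.q_isK h1, h1, h2, h3, h4⟩

namespace Pack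

variable (P : Pack z Q p y d e φ π D)
include P

theorem d_inv : d⁻¹ = d := inv_eq_of_mul_eq_one_right P.five.dd

theorem d_back : d * (y * y) * d⁻¹ = y := by
  calc d * (y * y) * d⁻¹ = d * y * d⁻¹ * (d * y * d⁻¹) := by group
    _ = y * y * y * y := by rw [P.five.dy]; group
    _ = y := by rw [P.five.std.cube, one_mul]

/-- conjugation by the inverting involution keeps the centraliser -/
theorem d_conj {x : G} (hx : Commute x y) : Commute (d * x * d⁻¹) y := by
  show d * x * d⁻¹ * y = y * (d * x * d⁻¹)
  calc d * x * d⁻¹ * y = d * x * d⁻¹ * (d * (y * y) * d⁻¹) := by rw [P.d_back]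
    _ = d * (x * (y * y)) * d⁻¹ := by group
    _ = d * ((y * y) * x) * d⁻¹ := by rw [(hx.mul_right hx).eq]
    _ = d * (y * y) * d⁻¹ * (d * x * d⁻¹) := by group
    _ = _ := by rw [P.d_back]

theorem img_pow {x : G} (hx : Commute x y) : img π x = 1 ↔ x ∈ Subgroup.zpowers y := by
  rw [img_eq hx, P.ker]

theorem exists_pow {a b : G} (ha : Commute a y) (hb : Commute b y) (h : img π a = img π b) :
    ∃ n : ℕ, a = b * y ^ n := by
  have h1 : img π (b⁻¹ * a) = 1 := by rw [img_mul hb.inv_left ha, img_inv hb, h, inv_mul_cancel]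
  obtain ⟨n, hn⟩ := mem_powers_iff_mem_zpowers.2 ((P.img_pow (hb.inv_left.mul_left ha)).1 h1)
  exact ⟨n, by rw [show y ^ n = b⁻¹ * a from hn, mul_inv_cancel_left]⟩

/-- two involutions with the same image agree -/
theorem inv_unique {a b : G} (ha : Commute a y) (hb : Commute b y) (ha2 : a * a = 1) (hb2 : b * b = 1)
    (h : img π a = img π b) : a = b := by
  obtain ⟨n, rfl⟩ := P.exists_pow ha hb h
  rw [show b * y ^ n * (b * y ^ n) = b * (y ^ n * b) * y ^ n by group, ← (hb.pow_right n).eq, ← mul_assoc, hb2,
    one_mul, ← pow_add, ← two_mul] at ha2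
  rw [cube_pow P.five.std.cube ha2, mul_one]

/-- a power of the element of order three commuting with the inverter is trivial -/
theorem eq_one_of_d {x : G} (hx : x ∈ Subgroup.zpowers y) (hd : Commute d x) : x = 1 := by
  obtain ⟨n, rfl⟩ := mem_powers_iff_mem_zpowers.2 hx
  refine cube_pow P.five.std.cube ?_
  show y ^ (2 * n) = 1
  have h1 : y ^ n * y ^ n = y ^ n := by
    calc y ^ n * y ^ n = (d * y * d⁻¹) ^ n := by rw [P.five.dy, (Commute.refl y).mul_pow]
      _ = d * y ^ n * d⁻¹ := conj_pow
      _ = _ := by rw [hd.eq, mul_inv_cancel_right]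
  rw [two_mul, pow_add, mul_eq_left.1 h1, one_mul]

theorem e_ne : e ≠ 1 := by
  intro he
  have h1 := P.five.std.sys.acts_unique rfl (by rfl) (he ▸ P.five.e_act) P.five.std.sys.acts_one
  exact absurd h1 (by decide +kernel)

/-- a power of the element of order three commuting with the fusing involution is trivial -/
theorem eq_one_of_e {x : G} (hx : x ∈ Subgroup.zpowers y) (he : Commute e x) : x = 1 := by
  obtain ⟨n, rfl⟩ := mem_powers_iff_mem_zpowers.2 hx
  obtain hn | hn | hn : y ^ n = 1 ∨ y ^ n = y ∨ y ^ n = y * y := by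
    have e3 : y ^ 3 = 1 := by rw [pow_succ, pow_two, P.five.std.cube]
    have : y ^ n = y ^ (n % 3) := by
      conv_lhs => rw [← Nat.div_add_mod n 3, pow_add, pow_mul, e3, one_pow, one_mul]
    rw [this]
    have := Nat.mod_lt n (show 3 > 0 by norm_num)
    interval_cases n % 3 <;> simp [pow_two]
  · exact hn
  all_goals
    exfalso
    have hey : Commute e y := by
      have h1 : Commute e (y ^ n) := he
      rw [hn] at h1
      first
        | exact h1
        | exact (show y * y * (y * y) = y by
            calc y * y * (y * y) = y * y * y * y := by group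
              _ = y := by rw [P.five.std.cube, one_mul]) ▸ h1.mul_right h1
    refine P.e_ne ?_
    calc e = (y * y * y) * (e * e * e) := by rw [P.five.std.cube, one_mul, P.five.ee, one_mul]
      _ = y * e * (y * e) * (y * e) := by
        rw [show y * e * (y * e) * (y * e) = y * (e * y) * (e * y) * e by group, hey.eq,
          show y * (y * e) * (y * e) * e = y * y * (e * y) * e * e by group, hey.eq]
        group
      _ = 1 := P.five.ye3

/-- the lift of a core index -/
theorem core_lift {x n : ℕ} (h : coreP x n = true) :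
    kx' φ x ∈ Q ∧ p (kx' φ x) = n ∧ Commute (kx' φ x) y ∧ img π (kx' φ x) = D.psi x := by
  obtain ⟨hK, hq, h1, h2, h3⟩ := core_spec h
  have la : UFourThree.xa x < 24 := (UFourThree.xa_lt hK.1).trans (by norm_num)
  obtain ⟨hm, hp⟩ := P.fac.p_core _ _ la (UFourThree.xb_lt x) h1 h2
  have hy : Commute (kx' φ x) y := P.fac.comm_y _
  exact ⟨hm, hp.trans h3, hy, by rw [img_eq hy]; exact (P.link x hK _).symm⟩

theorem z_comm : Commute z y := P.five.std.act.1.symm

theorem img_z : img π z = D.psi 48 := by
  rw [img_eq P.z_comm, P.link 48 UFourThree.isK_z (mem_centralizer_singleton_iff'.2 (P.fac.comm_y _))]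
  refine congrArg π (Subtype.ext ?_)
  show z = kx' φ 48
  rw [kx', show UFourThree.xa 48 = 0 from rfl, show UFourThree.xb 48 = 12 from rfl, UFourThree.sl_zero,
    UFourThree.sl_twelve]
  exact P.fac.phi_z.symm

theorem exists_delta : ∃ δ : H →* H, ∀ x, Commute x y → img π (d * x * d⁻¹) = δ (img π x) := by
  have hC : ∀ c : Subgroup.centralizer ({y} : Set G), Commute (c : G) y := fun c =>
    mem_centralizer_singleton_iff'.1 c.2
  let f : Subgroup.centralizer ({y} : Set G) →* H :=
    MonoidHom.mk' (fun c => img π (d * (c : G) * d⁻¹)) fun a b => by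
      rw [← img_mul (P.d_conj (hC a)) (P.d_conj (hC b))]
      congr 1
      push_cast
      group
  have hf : π.ker ≤ f.ker := by
    intro c hc
    rw [MonoidHom.mem_ker] at hc ⊢
    obtain ⟨n, hn⟩ := mem_powers_iff_mem_zpowers.2 ((P.ker c).1 hc)
    show img π (d * (c : G) * d⁻¹) = 1
    rw [P.img_pow (P.d_conj (hC c)), ← show y ^ n = (c : G) from hn, ← conj_pow, P.five.dy]
    exact Subgroup.pow_mem _ (mul_mem (Subgroup.mem_zpowers y) (Subgroup.mem_zpowers y)) n
  refine ⟨π.liftOfSurjective P.surj ⟨f, hf⟩, fun x hx => ?_⟩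
  rw [img_eq hx, MonoidHom.liftOfSurjective, MonoidHom.liftOfRightInverse_comp_apply]
  rfl

end Pack

end CfsgLib.Recog.SuzIso
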