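import Cfsg.Agent.Lib.LocalEvenB.SuzType.Locals.Tools
import Cfsg.Agent.Lib.Recog.SuzIso.Five

set_option autoImplicit false
set_option linter.unusedSectionVars false
set_option maxRecDepth 100000

/-!
The alternating group of degree five seen from a conjugate involution fixes a partner (owner: helper22).
-/

namespace CfsgLib.Recog.SuzIso

open CfsgLib.LocalEvenB.SuzType CfsgLib.ThreeTrans CfsgLib.Recog.SuzThree

/-- the four possible partners -/
def partners : List Nat := [8, 9, 10, 15]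

/-- inverting involutions fixing the vector -/
def dCands : List (List Nat) :=
  (centMaps.map (comp dFive)).filter fun D => (app D 4 == 4) && (comp D D == one)

/-- fusing involutions fixing the vector -/
def eCands : List (List Nat) :=
  (cand1.map fun A => comp czeroM (comp A czeroM)).filter fun E =>
    (comp E E == one) && (comp (comp rOne E) (comp (comp rOne E) (comp rOne E)) == one)

theorem partner_check : (dCands.all fun D => eCands.all fun E =>
    !(comp (comp D E) (comp (comp D E) (comp D E)) == one) ||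
      partners.any fun n => (app D n == n) && (app E n == n)) = true := by decide +kernel

theorem partner_facts : (∀ n ∈ partners, n < 16 ∧ qb n = false) ∧
    comp czeroM czeroM = one ∧ czeroM.length = 6 ∧ app czeroM 1 = 4 ∧ app czeroM 4 = 1 ∧ dFive.length = 6 := by
  refine ⟨?_, ?_, ?_, ?_, ?_, ?_⟩ <;> decide +kernel

variable {G : Type*} [Group G] [Finite G] {z : G} {Q : Subgroup G} {p : G → Nat} {y d e : G}

/-- a partner fixed by the conjugate group -/
theorem exists_partner (W : Five z Q p y d e) {k : G} (hky : Commute k y)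
    (hk : k * z * k⁻¹ ∈ Q) (hk4 : p (k * z * k⁻¹) = 4 ∨ p (k * z * k⁻¹) = 8)
    (hk' : k⁻¹ * z * k ∈ Q) (hpk' : p (k⁻¹ * z * k) = 4) :
    ∃ n ∈ partners, ∀ a ∈ Q, p a = n →
      Commute (k * a * k⁻¹) y ∧ Commute (k * a * k⁻¹) d ∧ Commute (k * a * k⁻¹) e := by
  have h := W.std.sys
  obtain ⟨hpn, hcz, hczl, hc1, hc4, hdl⟩ := partner_facts
  obtain ⟨-, hdk, hek⟩ := W.fix _ hk hk4
  have tr : ∀ {x : G}, Commute x (k * z * k⁻¹) → Commute (k⁻¹ * x * k) z := by
    intro x hx
    show k⁻¹ * x * k * z = z * (k⁻¹ * x * k)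
    calc k⁻¹ * x * k * z = k⁻¹ * (x * (k * z * k⁻¹)) * k := by group
      _ = _ := by rw [hx.eq]; group
  have hf : ∀ {x : G}, Commute x z → Commute (k⁻¹ * x * k) (k⁻¹ * z * k) := by
    intro x hx
    show k⁻¹ * x * k * (k⁻¹ * z * k) = k⁻¹ * z * k * (k⁻¹ * x * k)
    calc k⁻¹ * x * k * (k⁻¹ * z * k) = k⁻¹ * (x * z) * k := by group
      _ = _ := by rw [hx.eq]; group
  set f := k⁻¹ * z * k with hfdef
  have hy1 : k⁻¹ * y * k = y := by rw [hky.inv_left.eq, inv_mul_cancel_right]
  obtain ⟨D, hD, hd1⟩ := h.exists_acts (tr hdk)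
  obtain ⟨E, hE, he1⟩ := h.exists_acts (tr hek)
  have hdd : k⁻¹ * d * k * (k⁻¹ * d * k) = 1 := by
    calc k⁻¹ * d * k * (k⁻¹ * d * k) = k⁻¹ * (d * d) * k := by group
      _ = 1 := by rw [W.dd]; group
  have hee : k⁻¹ * e * k * (k⁻¹ * e * k) = 1 := by
    calc k⁻¹ * e * k * (k⁻¹ * e * k) = k⁻¹ * (e * e) * k := by group
      _ = 1 := by rw [W.ee]; group
  have hde : k⁻¹ * d * k * (k⁻¹ * e * k) * (k⁻¹ * d * k * (k⁻¹ * e * k)) * (k⁻¹ * d * k * (k⁻¹ * e * k)) = 1 := by
    calc _ = k⁻¹ * (d * e * (d * e) * (d * e)) * k := by group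
      _ = 1 := by rw [W.de3]; group
  have hye : y * (k⁻¹ * e * k) * (y * (k⁻¹ * e * k)) * (y * (k⁻¹ * e * k)) = 1 := by
    rw [← hy1]
    calc _ = k⁻¹ * (y * e * (y * e) * (y * e)) * k := by group
      _ = 1 := by rw [W.ye3]; group
  have hdy : k⁻¹ * d * k * y * (k⁻¹ * d * k)⁻¹ = y * y := by
    calc k⁻¹ * d * k * y * (k⁻¹ * d * k)⁻¹ = k⁻¹ * (d * (k * y * k⁻¹) * d⁻¹) * k := by group
      _ = k⁻¹ * (y * y) * k := by rw [hky.eq, mul_inv_cancel_right, W.dy]
      _ = k⁻¹ * y * k * (k⁻¹ * y * k) := by group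
      _ = _ := by rw [hy1]
  set d1 := k⁻¹ * d * k with hd1def
  set e1 := k⁻¹ * e * k with he1def
  have hD4 : app D 4 = 4 := by
    rw [← hpk', ← hd1.2 _ hk', (hf (W.d_act.1)).eq, mul_inv_cancel_right]
  have hE4 : app E 4 = 4 := by
    rw [← hpk', ← he1.2 _ hk', (hf (W.e_act.1)).eq, mul_inv_cancel_right]
  -- the candidates
  have hDmem : D ∈ dCands := by
    have hcy : Commute (d * d1) y := by
      have hd' : d * (y * y) * d⁻¹ = y := by
        calc d * (y * y) * d⁻¹ = d * y * d⁻¹ * (d * y * d⁻¹) := by group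
          _ = y * y * y * y := by rw [W.dy]; group
          _ = y := by rw [W.std.cube, one_mul]
      refine mul_inv_eq_iff_eq_mul.1 ?_
      calc d * d1 * y * (d * d1)⁻¹ = d * (d1 * y * d1⁻¹) * d⁻¹ := by group
        _ = y := by rw [hdy, hd']
    obtain ⟨C, hC, hCc⟩ := W.std.acts_cent (W.d_act.1.mul_left hd1.1) hcy
    have hCl : C.length = 6 := by
      have h' := List.all_eq_true.1 centMaps_comm C hC
      simp only [Bool.and_eq_true] at h'
      exact (isoB_iff.1 h'.2).1
    have hD' : Acts z Q p d1 (comp dFive C) := by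
      have h' := h.acts_mul hCl W.d_act hCc
      rwa [← mul_assoc, W.dd, one_mul] at h'
    obtain rfl := h.acts_unique hD.1 (by rw [length_comp, hCl]) hd1 hD'
    simp only [dCands, List.mem_filter, List.mem_map, Bool.and_eq_true, beq_iff_eq]
    refine ⟨⟨C, hC, rfl⟩, hD4, h.acts_unique (by rw [length_comp, hD.1]) rfl (h.acts_mul hD.1 hd1 hd1) ?_⟩
    rw [hdd]; exact h.acts_one
  have hEmem : E ∈ eCands := by
    obtain ⟨-, c, hc⟩ := h.acts_word czeroW
    have hdw := data_words
    simp only [Bool.and_eq_true, beq_iff_eq] at hdw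
    rw [← (show czeroM = wmap czeroW by simpa using hdw.1.1.1.2)] at hc
    obtain ⟨B, hB, hBc⟩ := h.exists_acts ((hc.1.mul_left he1.1).mul_left hc.1)
    have hB' : B = comp (comp czeroM E) czeroM :=
      h.acts_unique hB.1 (by rw [length_comp, hczl]) hBc (h.acts_mul hczl (h.acts_mul hE.1 hc he1) hc)
    have hm : B ∈ cand1 := mem_cand1 hB (by rw [hB', app_comp hczl, app_comp hE.1, hc1, hE4, hc4])
    have hBE : comp czeroM (comp B czeroM) = E := by
      refine eq_of_app (by rw [length_comp, length_comp, hczl]) hE.1 fun n hn => ?_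
      have hn64 : n < 64 := by revert n; decide
      have hcc : ∀ n < 64, app czeroM (app czeroM n) = n := fun n hn => by
        rw [← app_comp hczl, hcz, app_one n hn]
      rw [app_comp (by rw [length_comp, hczl]), app_comp hczl, hB', app_comp hczl, app_comp hE.1, hcc n hn64,
        hcc _ (hE.2 n hn64).1]
    simp only [eCands, List.mem_filter, List.mem_map, Bool.and_eq_true, beq_iff_eq]
    refine ⟨⟨B, hm, hBE⟩, h.acts_unique (by rw [length_comp, hE.1]) rfl (h.acts_mul hE.1 he1 he1) ?_,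
      h.acts_unique (by simp [length_comp, hE.1]) rfl (acts_cube h (by rw [length_comp, hE.1]) (h.acts_mul hE.1 W.std.act he1)) ?_⟩
    · rw [hee]; exact h.acts_one
    · rw [← mul_assoc, hye]; exact h.acts_one
  have hchk := List.all_eq_true.1 (List.all_eq_true.1 partner_check D hDmem) E hEmem
  have hcube : comp (comp D E) (comp (comp D E) (comp D E)) = one :=
    h.acts_unique (by simp [length_comp, hE.1]) rfl (acts_cube h (by rw [length_comp, hE.1]) (h.acts_mul hE.1 hd1 he1))
      (by rw [← mul_assoc, hde]; exact h.acts_one)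
  simp only [hcube, beq_self_eq_true, Bool.not_true, Bool.false_or, List.any_eq_true, Bool.and_eq_true,
    beq_iff_eq] at hchk
  obtain ⟨n, hn, hnD, hnE⟩ := hchk
  refine ⟨n, hn, fun a ha hpa => ?_⟩
  have hya : Commute y a := (W.std.mem_core_iff ha).2 (hpa ▸ (hpn n hn).1)
  obtain ⟨i, hi⟩ := h.eq_of_p ha (h.large.conj_mem hd1.1 ha) (by rw [hd1.2 a ha, hpa, hnD])
  obtain ⟨j, hj⟩ := h.eq_of_p ha (h.large.conj_mem he1.1 ha) (by rw [he1.2 a ha, hpa, hnE])
  have key : ∀ {u : G} {s : Bool}, u * u * u = 1 → Commute u z → u * a * u⁻¹ = a * sg z s → s = false := by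
    intro u s hu huz hua
    have hs : u * sg z s * u⁻¹ = sg z s := by rw [(h.sg_comm huz s).eq, mul_inv_cancel_right]
    have e7 : a = a * (sg z s * sg z s * sg z s) := by
      calc a = u * u * u * a * (u * u * u)⁻¹ := by rw [hu]; group
        _ = u * (u * (u * a * u⁻¹) * u⁻¹) * u⁻¹ := by group
        _ = u * (u * (a * sg z s) * u⁻¹) * u⁻¹ := by rw [hua]
        _ = u * (u * a * u⁻¹ * (u * sg z s * u⁻¹)) * u⁻¹ := by group
        _ = u * (a * sg z s * sg z s) * u⁻¹ := by rw [hua, hs]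
        _ = (u * a * u⁻¹) * (u * sg z s * u⁻¹) * (u * sg z s * u⁻¹) := by group
        _ = _ := by rw [hua, hs]; group
    exact h.sg_inj ((sg_cube h (by simpa using e7.symm)).trans rfl)
  have hje : j = false := by
    refine key hye (W.std.act.1.mul_left he1.1) ?_
    calc y * e1 * a * (y * e1)⁻¹ = y * (e1 * a * e1⁻¹) * y⁻¹ := by group
      _ = y * a * y⁻¹ * (y * sg z j * y⁻¹) := by rw [hj]; group
      _ = _ := by rw [hya.eq, mul_inv_cancel_right, (h.sg_comm W.std.act.1 j).eq, mul_inv_cancel_right]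
  have he1a : Commute e1 a := by
    rw [hje] at hj
    exact mul_inv_eq_iff_eq_mul.1 (hj.trans (mul_one a))
  have hie : i = false := by
    refine key hde (hd1.1.mul_left he1.1) ?_
    calc d1 * e1 * a * (d1 * e1)⁻¹ = d1 * (e1 * a * e1⁻¹) * d1⁻¹ := by group
      _ = _ := by rw [he1a.eq, mul_inv_cancel_right, hi]
  have hd1a : Commute d1 a := by
    rw [hie] at hi
    exact mul_inv_eq_iff_eq_mul.1 (hi.trans (mul_one a))
  have back : ∀ {x : G}, Commute (k⁻¹ * x * k) a → Commute (k * a * k⁻¹) x := by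
    intro x hx
    show k * a * k⁻¹ * x = x * (k * a * k⁻¹)
    calc k * a * k⁻¹ * x = k * (a * (k⁻¹ * x * k)) * k⁻¹ := by group
      _ = _ := by rw [← hx.eq]; group
  exact ⟨back (by rw [hy1]; exact hya), back hd1a, back he1a⟩

end CfsgLib.Recog.SuzIso
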