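import Cfsg.Agent.Lib.Recog.SuzThree.Main
import Cfsg.Agent.Lib.Recog.SuzIso.Conf
import Cfsg.Agent.Lib.Recog.SporBound.SuzCoverA.Valid
import Cfsg.Agent.Lib.Recog.SporBound.SuzCoverB.Valid
import Cfsg.Agent.Lib.Recog.SporBound.SuzCoverC.Valid

set_option autoImplicit false
set_option linter.unusedSectionVars false
set_option maxRecDepth 100000
set_option Elab.async false

/-!
Seven involutions of a group of Suzuki type satisfying the relations of the presented group (owner: helper22).
-/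

namespace CfsgLib.Recog.SuzIso

open CfsgLib.LocalEvenB.SuzType CfsgLib.ThreeTrans CfsgLib.Recog.SuzThree CfsgLib.Recog.SporBound
open CfsgLib.Schur.Cert
open CfsgLib.Recog.UFourThree (SL23 kx' bm imgW cgens)
open Known.U43Mult (Mdl phi)
open scoped commutatorElement

/-- exchanging the two conjugate letters -/
def swp (j : ℕ) : ℕ := cond (Nat.beq j 2) 3 (cond (Nat.beq j 3) 2 j)

theorem rels_cases : (sixRels.all fun r =>
    !r.contains 3 || ((!r.contains 2) && sixRels.contains (r.map swp) && !(r.map swp).contains 3) ||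
      (r == (List.replicate 4 [2, 3]).flatten) || (r == [0, 2, 3, 2, 3]) ||
      (r == (List.replicate 5 [1, 2, 3]).flatten)) = true := by decide +kernel

theorem cover_shape : ((SuzCoverA.cert.subs == []) && (SuzCoverA.cert.kl == [0, 1, 4, 5]) &&
    (SuzCoverB.cert.subs == [[0], [1], [4], [5]]) && (SuzCoverB.cert.kl == [0, 1, 2, 4, 5]) &&
    (SuzCoverC.cert.subs == [[0], [1], [2], [4], [5]]) && (SuzCoverC.cert.kl == [0, 1, 2, 3, 4, 5]) &&
    Nat.beq SuzCoverA.cert.n 360 && Nat.beq SuzCoverB.cert.n 56 && Nat.beq SuzCoverC.cert.n 162 &&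
    (SuzCoverA.cert.rels.all fun r => sixRels.contains r) && (SuzCoverB.cert.rels.all fun r => sixRels.contains r) &&
    (SuzCoverC.cert.rels.all fun r => sixRels.contains r)) = true := by decide +kernel

/-- six involutions with these relations generate at most as many elements as PSU(4,3) has -/
theorem cover_bound {C : Type*} [Group C] {a : ℕ → C} (hinv : ∀ x, a x * a x = 1)
    (he : a CfsgLib.ThreeTrans.CosetIndex.eqLetter = 1) (hrel : ∀ r ∈ sixRels, (r.map a).prod = 1) :
    Nat.card ↥(Subgroup.closure {g | ∃ x < 6, g = a x}) ≤ 3265920 := by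
  have hs := cover_shape
  simp only [Bool.and_eq_true, beq_iff_eq, Nat.beq_eq, List.all_eq_true, List.contains_iff_mem] at hs
  obtain ⟨⟨⟨⟨⟨⟨⟨⟨⟨⟨⟨sA, kA⟩, sB⟩, kB⟩, sC⟩, kC⟩, nA⟩, nB⟩, nC⟩, rA⟩, rB⟩, rC⟩ := hs
  obtain ⟨f1, h1⟩ := Cert.card_le (C := SuzCoverA.cert) hinv he SuzCoverA.ok ⊥
    (Subgroup.closure {g | ∃ x ∈ SuzCoverA.cert.kl, g = a x}) (fun r hr => hrel r (rA r hr))
    (fun w hw => by simp [sA] at hw) le_rfl
  haveI := f1
  obtain ⟨f2, h2⟩ := Cert.card_le (C := SuzCoverB.cert) hinv he SuzCoverB.ok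
    (Subgroup.closure {g | ∃ x ∈ SuzCoverA.cert.kl, g = a x})
    (Subgroup.closure {g | ∃ x ∈ SuzCoverB.cert.kl, g = a x}) (fun r hr => hrel r (rB r hr))
    (fun w hw => by
      rw [sB] at hw
      simp only [List.mem_cons, List.not_mem_nil, or_false] at hw
      rcases hw with rfl | rfl | rfl | rfl
      all_goals
        simp only [List.map_cons, List.map_nil, List.prod_singleton]
        exact Subgroup.subset_closure ⟨_, by rw [kA]; simp, rfl⟩) le_rfl
  haveI := f2
  obtain ⟨-, h3⟩ := Cert.card_le (C := SuzCoverC.cert) hinv he SuzCoverC.ok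
    (Subgroup.closure {g | ∃ x ∈ SuzCoverB.cert.kl, g = a x})
    (Subgroup.closure {g | ∃ x < 6, g = a x}) (fun r hr => hrel r (rC r hr))
    (fun w hw => by
      rw [sC] at hw
      simp only [List.mem_cons, List.not_mem_nil, or_false] at hw
      rcases hw with rfl | rfl | rfl | rfl | rfl
      all_goals
        simp only [List.map_cons, List.map_nil, List.prod_singleton]
        exact Subgroup.subset_closure ⟨_, by rw [kB]; simp, rfl⟩)
    (Subgroup.closure_mono (by
      rintro g ⟨x, hx, rfl⟩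
      refine ⟨x, ?_, rfl⟩
      rw [kC]
      simp only [List.mem_cons, List.not_mem_nil, or_false]
      omega))
  rw [Subgroup.card_bot, mul_one, nA] at h1
  rw [nB] at h2
  rw [nC] at h3
  calc _ ≤ 162 * (56 * 360) := h3.trans (Nat.mul_le_mul_left _ (h2.trans (Nat.mul_le_mul_left _ h1)))
    _ = 3265920 := by norm_num

theorem val_flatMap {H : Type*} [Group H] (D : UFourThree.Adj H) (F : ℕ → List ℕ) :
    ∀ w : List ℕ, D.val (w.flatMap F) = (w.map fun j => D.val (F j)).prod
  | [] => D.val_nil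
  | j :: w => by rw [List.flatMap_cons, D.val_append, val_flatMap D F w, List.map_cons, List.prod_cons]

/-- a word in six elements of the model acts by their permutations -/
theorem imgP_spec {P : List ℕ} {b : ℕ → Mdl} (hb : ∀ j < 6, ∀ x : Fin 126, pgetN (P.getD j 0) x = (phi (b j) x : ℕ)) :
    ∀ {w : List ℕ}, (∀ j ∈ w, j < 6) → ∀ x : Fin 126, imgP P w x = (phi ((w.map b).prod) x : ℕ)
  | [], _, x => by simp [imgP]
  | j :: w, h, x => by
    have ih := imgP_spec hb (w := w) (fun i hi => h i (List.mem_cons_of_mem _ hi)) x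
    rw [List.map_cons, List.prod_cons, map_mul, Equiv.Perm.mul_apply, ← hb j (h j List.mem_cons_self), ← ih]
    rfl

theorem mdl_one_of_img {P : List ℕ} {b : ℕ → Mdl} (hb : ∀ j < 6, ∀ x : Fin 126, pgetN (P.getD j 0) x = (phi (b j) x : ℕ))
    {w : List ℕ} (hw : ∀ j ∈ w, j < 6) (h : ∀ x < 126, imgP P w x = x) : (w.map b).prod = 1 :=
  Known.U43Mult.phi_injective (Equiv.ext fun x => Fin.ext (by rw [← imgP_spec hb hw x, h x x.2]; simp))

variable {G : Type*} [Group G] [Finite G] {z : G} {Q : Subgroup G} {p : G → Nat} {y d e : G} {φ : SL23 × SL23 →* G}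
  {H : Type*} [Group H] [Finite H] {π : Subgroup.centralizer ({y} : Set G) →* H} {D : UFourThree.Adj H}

/-- the six involutions over the centraliser of the element of order three -/
theorem Pack.exists_six (P : Pack z Q p y d e φ π D)
    (hperf : commutator ↥(Subgroup.centralizer ({y} : Set G)) = ⊤) :
    ∃ a : ℕ → G, a 0 = z ∧ a 3 = d * a 2 * d⁻¹ ∧ Commute (a 1) d ∧ (∀ j < 6, j ≠ 3 → Commute (a j) e) ∧
      (∀ j, j = 4 ∨ j = 5 → Commute (a j) d) ∧
      (∀ r ∈ sixRels, r ≠ (List.replicate 5 [1, 2, 3]).flatten → (r.map a).prod = 1) ∧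
      ((List.replicate 5 [1, 2, 3]).flatten.map a).prod ∈ Subgroup.zpowers y ∧
      ((List.replicate 5 [1, 2, 3]).flatten.map a).prod ≠ 1 := by
  classical
  obtain ⟨i, n, m, L, hgood, hic, hL⟩ := P.exists_conf
  obtain ⟨ent, hent, hkey⟩ : ∃ ent ∈ confData, ent.1 = (i, n, m) := by
    have h := List.all_eq_true.1 conf_cover _ hgood
    simp only [List.any_eq_true, beq_iff_eq] at h
    exact h
  have hok := conf_check hent
  obtain ⟨⟨i', n', m'⟩, bw, PP, gw⟩ := ent
  simp only [Prod.mk.injEq] at hkey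
  obtain ⟨rfl, rfl, rfl⟩ := hkey
  simp only [confOK, Bool.and_eq_true, List.all_eq_true, List.mem_range, Nat.beq_eq, Nat.blt_eq] at hok
  obtain ⟨⟨⟨hbw, hW⟩, hR⟩, hgw⟩ := hok
  obtain ⟨v1, v2, v4, v8, vd1, vd2, v12, v48, -, -⟩ := vec_facts
  have hw := word_check
  simp only [Bool.and_eq_true, List.all_eq_true, List.mem_range, Nat.beq_eq, Nat.blt_eq] at hw
  obtain ⟨⟨⟨⟨⟨⟨⟨⟨⟨⟨⟨⟨⟨⟨⟨⟨⟨-, -⟩, -⟩, -⟩, -⟩, -⟩, -⟩, hix⟩, h100⟩, h124⟩, h716⟩, -⟩, -⟩, -⟩, -⟩, -⟩, -⟩, -⟩ := hw
  obtain ⟨fm, fp, fy, fi⟩ := P.core_lift h100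
  obtain ⟨gm, gp, gy, gi⟩ := P.core_lift h124
  obtain ⟨cm, cp, cy, ci⟩ := P.core_lift h716
  have hsys := P.five.std.sys
  have hv : ∀ {x : ℕ}, x ∈ [48, 100, 124, 716, 1100, 1148] → D.val (wordIx x) = D.psi x := fun hx =>
    val_word D (hix _ hx).1
  have hLy : ∀ j ∈ bw, Commute (L j) y := fun j hj => (hL j (hbw j hj)).1
  obtain ⟨a, ha⟩ : ∃ a : ℕ → G, a = fun j =>
      [z, (bw.map L).prod, kx' φ 716, d * kx' φ 716 * d⁻¹, kx' φ 100, kx' φ 124].getD j 1 := ⟨_, rfl⟩
  have a0 : a 0 = z := by subst ha; rfl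
  have a1 : a 1 = (bw.map L).prod := by subst ha; rfl
  have a2 : a 2 = kx' φ 716 := by subst ha; rfl
  have a3 : a 3 = d * kx' φ 716 * d⁻¹ := by subst ha; rfl
  have a4 : a 4 = kx' φ 100 := by subst ha; rfl
  have a5 : a 5 = kx' φ 124 := by subst ha; rfl
  have six : ∀ {j : ℕ}, j < 6 → j = 0 ∨ j = 1 ∨ j = 2 ∨ j = 3 ∨ j = 4 ∨ j = 5 := fun h => by omega
  have hay : ∀ j < 6, Commute (a j) y := by
    intro j hj
    rcases six hj with rfl | rfl | rfl | rfl | rfl | rfl
    · rw [a0]; exact P.z_comm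
    · rw [a1]; exact prod_comm hLy
    · rw [a2]; exact cy
    · rw [a3]; exact P.d_conj cy
    · rw [a4]; exact fy
    · rw [a5]; exact gy
  have hbd : Commute (a 1) d := a1 ▸ prod_comm fun j hj => (hL j (hbw j hj)).2.1
  have hae : ∀ j < 6, j ≠ 3 → Commute (a j) e := by
    intro j hj h3
    rcases six hj with rfl | rfl | rfl | rfl | rfl | rfl
    · rw [a0]; exact P.five.e_act.1.symm
    · rw [a1]; exact prod_comm fun j hj => (hL j (hbw j hj)).2.2.1
    · rw [a2]; exact (P.five.e_one _ cm cp).symm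
    · exact absurd rfl h3
    · rw [a4]; exact (P.five.fix _ fm (Or.inl fp)).2.2.symm
    · rw [a5]; exact (P.five.fix _ gm (Or.inr gp)).2.2.symm
  have hfd : ∀ j, j = 4 ∨ j = 5 → Commute (a j) d := by
    rintro j (rfl | rfl)
    · rw [a4]; exact (P.five.fix _ fm (Or.inl fp)).2.1.symm
    · rw [a5]; exact (P.five.fix _ gm (Or.inr gp)).2.1.symm
  -- the images
  obtain ⟨ι, hinj, hia, -⟩ := D.exists_embedding
  set W := sixWord i' n' m' bw with hWdef
  have hWlt : ∀ j < 6, ∀ c ∈ W.getD j [], c < 6 := fun j hj => (hW j hj).1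
  have hval : ∀ j < 6, img π (a j) = D.val (W.getD j []) := by
    intro j hj
    rcases six hj with rfl | rfl | rfl | rfl | rfl | rfl
    · rw [a0, P.img_z]; exact (hv (by simp)).symm
    · rw [a1, img_prod hLy]
      show _ = D.val (bw.flatMap fun j => (fiveWord n' m').getD j [])
      rw [val_flatMap]
      exact congrArg List.prod (List.map_congr_left fun j hj => (hL j (hbw j hj)).2.2.2)
    · rw [a2, ci]; exact (hv (by simp)).symm
    · rw [a3, hic]
      have hi : i' = 1100 ∨ i' = 1148 := by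
        have : (goodConf.all fun k => k.1 == 1100 || k.1 == 1148) = true := by decide +kernel
        simpa using List.all_eq_true.1 this _ hgood
      exact (hv (by rcases hi with rfl | rfl <;> simp)).symm
    · rw [a4, fi]; exact (hv (by simp)).symm
    · rw [a5, gi]; exact (hv (by simp)).symm
  obtain ⟨b, hb⟩ : ∃ b : ℕ → Mdl, ∀ j, b j = ((W.getD j []).map bm).prod := ⟨_, fun _ => rfl⟩
  have hbimg : ∀ j < 6, img π (a j) = ι (b j) := fun j hj => by
    rw [hval j hj, hb]
    exact map_prod_eq ι D.a hia (hWlt j hj)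
  have hP : ∀ j < 6, ∀ x : Fin 126, pgetN (PP.getD j 0) x = (phi (b j) x : ℕ) := fun j hj x => by
    rw [hb, ← UFourThree.phi_prod (hWlt j hj) x]
    exact ((hW j hj).2 x x.2).symm
  have hword : ∀ {r : List ℕ}, (∀ j ∈ r, j < 6) → img π (r.map a).prod = ι ((r.map b).prod) := by
    intro r hr
    rw [img_prod fun j hj => hay j (hr j hj), map_list_prod, List.map_map]
    exact congrArg List.prod (List.map_congr_left fun j hj => hbimg j (hr j hj))
  have hlet : ∀ r ∈ sixRels, ∀ j ∈ r, j < 6 := fun r hr j hj =>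
    Nat.blt_eq.mp (List.all_eq_true.1 (List.all_eq_true.1 six_letters r hr) j hj)
  have hin : ∀ r ∈ sixRels, (r.map a).prod ∈ Subgroup.zpowers y := by
    intro r hr
    rw [← P.img_pow (prod_comm fun j hj => hay j (hlet r hr j hj)), hword (hlet r hr),
      mdl_one_of_img hP (hlet r hr) (hR r hr), map_one]
  -- relations without the conjugated letter
  have hno3 : ∀ r ∈ sixRels, 3 ∉ r → (r.map a).prod = 1 := fun r hr h3 =>
    P.eq_one_of_e (hin r hr) (prod_comm fun j hj => hae j (hlet r hr j hj) fun e => h3 (e ▸ hj)).symm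
  have hcc : ∀ {j : ℕ}, j < 6 → j ≠ 3 → [j, j] ∈ sixRels → a j * a j = 1 := fun {j} hj h3 hm => by
    simpa using hno3 _ hm (by simp [Ne.symm h3])
  have hc2 : a 2 * a 2 = 1 := hcc (by norm_num) (by norm_num) (by decide +kernel)
  have hcomm23 : a 2 * a 3 * (a 2 * a 3) = z := by
    have hm3 : a 3 ∈ Q := by rw [a3]; exact hsys.large.conj_mem P.five.d_act.1 cm
    have hp3 : p (a 3) = 2 := by rw [a3, P.five.d_act.2 _ cm, cp, vd1]
    have h := hsys.comm (a2 ▸ cm : a 2 ∈ Q) hm3
    have hc3 : a 3 * a 3 = 1 := by rw [hsys.sq _ hm3, hp3, v2]; rfl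
    rw [show p (a 2) = 1 by rw [a2, cp], hp3, v12, show sg z true = z from rfl, inv_eq_of_mul_eq_one_right hc2,
      inv_eq_of_mul_eq_one_right hc3] at h
    rwa [mul_assoc (a 2 * a 3)] at h
  have hrels : ∀ r ∈ sixRels, r ≠ (List.replicate 5 [1, 2, 3]).flatten → (r.map a).prod = 1 := by
    intro r hr hne
    have h := List.all_eq_true.1 rels_cases r hr
    simp only [Bool.or_eq_true, Bool.and_eq_true, Bool.not_eq_true', beq_iff_eq, List.contains_eq_mem,
      decide_eq_false_iff_not, decide_eq_true_eq] at h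
    rcases h with ((((h3 | ⟨⟨h2, hsw⟩, hs3⟩) | e4) | e5) | e6)
    · exact hno3 r hr h3
    · have h1 := hno3 _ hsw hs3
      rw [List.map_map] at h1
      have e : r.map a = (r.map (a ∘ swp)).map (MulAut.conj d) := by
        rw [List.map_map]
        refine List.map_congr_left fun j hj => ?_
        have hj6 := hlet r hr j hj
        show a j = d * a (swp j) * d⁻¹
        rcases six hj6 with rfl | rfl | rfl | rfl | rfl | rfl
        · show a 0 = d * a 0 * d⁻¹
          rw [a0, P.five.d_act.1.eq, mul_inv_cancel_right]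
        · show a 1 = d * a 1 * d⁻¹
          rw [← hbd.eq, mul_inv_cancel_right]
        · exact absurd hj h2
        · show a 3 = d * a 2 * d⁻¹
          rw [a2, a3]
        · show a 4 = d * a 4 * d⁻¹
          rw [← (hfd 4 (Or.inl rfl)).eq, mul_inv_cancel_right]
        · show a 5 = d * a 5 * d⁻¹
          rw [← (hfd 5 (Or.inr rfl)).eq, mul_inv_cancel_right]
      rw [e, ← map_list_prod, h1, map_one]
    · subst e4
      rw [show ((List.replicate 4 [2, 3]).flatten.map a).prod = a 2 * a 3 * (a 2 * a 3) * (a 2 * a 3 * (a 2 * a 3)) by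
        simp [List.replicate, mul_assoc], hcomm23, hsys.large.mul_self_z]
    · subst e5
      rw [show (([0, 2, 3, 2, 3] : List ℕ).map a).prod = a 0 * (a 2 * a 3 * (a 2 * a 3)) by simp [mul_assoc],
        hcomm23, a0, hsys.large.mul_self_z]
    · exact absurd e6 hne
  refine ⟨a, a0, by rw [a2, a3], hbd, hae, hfd, hrels, hin _ (by decide +kernel), fun hx => ?_⟩
  -- otherwise the six generate a complement to the element of order three
  have hall : ∀ r ∈ sixRels, (r.map a).prod = 1 := fun r hr => by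
    by_cases e : r = (List.replicate 5 [1, 2, 3]).flatten
    · rw [e]; exact hx
    · exact hrels r hr e
  obtain ⟨aC, haC⟩ : ∃ aC : ℕ → ↥(Subgroup.centralizer ({y} : Set G)), ∀ j, (aC j : G) = if j < 6 then a j else 1 :=
    ⟨fun j => ⟨if j < 6 then a j else 1, by
      refine mem_centralizer_singleton_iff'.2 ?_
      split
      · exact hay j (by assumption)
      · exact Commute.one_left y⟩, fun j => rfl⟩
  have hcoe : ∀ {r : List ℕ}, (∀ j ∈ r, j < 6) → ((r.map aC).prod : G) = (r.map a).prod := by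
    intro r hr
    rw [← Subgroup.coe_subtype, map_list_prod, List.map_map]
    exact congrArg List.prod (List.map_congr_left fun j hj => by simp [haC, hr j hj])
  have hinv : ∀ x, aC x * aC x = 1 := fun x => Subtype.ext (by
    rw [Subgroup.coe_mul, haC, Subgroup.coe_one]
    split
    · rename_i hx6
      have hm : [x, x] ∈ sixRels := by
        have : ∀ x < 6, sixRels.contains [x, x] = true := by decide +kernel
        exact List.contains_iff_mem.1 (this x hx6)
      simpa using hall _ hm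
    · exact one_mul 1)
  have he : aC CfsgLib.ThreeTrans.CosetIndex.eqLetter = 1 := Subtype.ext (by rw [haC]; rfl)
  have hbound := cover_bound hinv he fun r hr => Subtype.ext (by
    rw [hcoe (hlet r hr), Subgroup.coe_one]; exact hall r hr)
  set K := Subgroup.closure {g | ∃ x < 6, g = aC x} with hK
  obtain ⟨eqv, -⟩ := D.exists_equiv
  have hcH : Nat.card H = 3265920 := by rw [← Nat.card_congr eqv.toEquiv]; exact Known.U43Mult.mdl_spec.2
  haveI : Finite Mdl := Finite.of_equiv _ eqv.symm.toEquiv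
  have hιsurj : Function.Surjective ι :=
    ((Nat.bijective_iff_injective_and_card ι).2 ⟨hinj, Nat.card_congr eqv.toEquiv⟩).2
  have hgen : ∀ h : H, ∃ k ∈ K, π k = h := by
    have hle : (⊤ : Subgroup Mdl) ≤ (K.map π).comap ι := by
      rw [← UFourThree.bm_gen, Subgroup.closure_le]
      rintro _ ⟨c, hc, rfl⟩
      obtain ⟨hg6, hgimg⟩ := hgw c hc
      refine ⟨((gw.getD c []).map aC).prod, list_prod_mem ?_, ?_⟩
      · intro t ht
        obtain ⟨j, hj, rfl⟩ := List.mem_map.1 ht
        exact Subgroup.subset_closure ⟨j, hg6 j hj, rfl⟩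
      · have heq : ((gw.getD c []).map b).prod = bm c := Known.U43Mult.phi_injective (Equiv.ext fun x => Fin.ext (by
          rw [← imgP_spec hP hg6 x, hgimg x x.2, UFourThree.phi_prod (by simpa using hc) x]
          simp))
        rw [← heq, ← hword hg6, ← hcoe hg6, img_eq (mem_centralizer_singleton_iff'.1 (((gw.getD c []).map aC).prod).2)]
    intro h
    obtain ⟨t, rfl⟩ := hιsurj h
    exact Subgroup.mem_map.1 (hle (Subgroup.mem_top t))
  have hcentral : ∀ v : ↥(Subgroup.centralizer ({y} : Set G)), π v = 1 → ∀ u, Commute v u := by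
    intro v hv u
    obtain ⟨l, hl⟩ := mem_powers_iff_mem_zpowers.2 ((P.ker v).1 hv)
    refine Subtype.ext ?_
    show (v : G) * u = u * v
    rw [← show y ^ l = (v : G) from hl]
    exact (Commute.pow_right (show Commute (u : G) y from mem_centralizer_singleton_iff'.1 u.2) l).symm.eq
  have hKtop : K = ⊤ := by
    rw [eq_top_iff, ← hperf, commutator_def, Subgroup.commutator_le]
    intro g1 _ g2 _
    obtain ⟨k1, hk1, e1⟩ := hgen (π g1)
    obtain ⟨k2, hk2, e2⟩ := hgen (π g2)
    have c1 := hcentral (k1⁻¹ * g1) (by rw [map_mul, map_inv, e1, inv_mul_cancel])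
    have c2 := hcentral (k2⁻¹ * g2) (by rw [map_mul, map_inv, e2, inv_mul_cancel])
    have e : ⁅g1, g2⁆ = ⁅k1, k2⁆ := by
      rw [commutatorElement_def, commutatorElement_def]
      generalize hv1 : k1⁻¹ * g1 = v1 at c1
      generalize hv2 : k2⁻¹ * g2 = v2 at c2
      rw [show g1 = k1 * v1 by rw [← hv1, mul_inv_cancel_left], show g2 = k2 * v2 by rw [← hv2, mul_inv_cancel_left]]
      calc k1 * v1 * (k2 * v2) * (k1 * v1)⁻¹ * (k2 * v2)⁻¹
          = k1 * (v1 * k2) * (v2 * v1⁻¹ * k1⁻¹) * v2⁻¹ * k2⁻¹ := by group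
        _ = k1 * k2 * v1 * (v1⁻¹ * k1⁻¹ * v2) * v2⁻¹ * k2⁻¹ := by
          rw [(c1 k2).eq, mul_assoc v2 v1⁻¹, (c2 (v1⁻¹ * k1⁻¹)).eq]; group
        _ = k1 * k2 * k1⁻¹ * k2⁻¹ := by group
    rw [e, commutatorElement_def]
    exact mul_mem (mul_mem (mul_mem hk1 hk2) (inv_mem hk1)) (inv_mem hk2)
  rw [hKtop, Subgroup.card_top] at hbound
  have hinjπ := ((Nat.bijective_iff_surjective_and_card π).2 ⟨P.surj, le_antisymm (hcH ▸ hbound)
    (Nat.card_le_card_of_surjective π P.surj)⟩).1
  refine P.five.std.y_ne ?_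
  have : (⟨y, mem_centralizer_singleton_iff'.2 (Commute.refl y)⟩ : ↥(Subgroup.centralizer ({y} : Set G))) = 1 :=
    hinjπ (by rw [map_one, P.ker]; exact Subgroup.mem_zpowers y)
  exact congrArg Subtype.val this

end CfsgLib.Recog.SuzIso
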